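import Mathlib
import Cfsg.Agent.FG.H98JA

/-! Local facts on subgroups that are simple of order 660 (lines) or copies of the first Janko
group (blocks). -/

set_option autoImplicit false

namespace Cfsg.Agent.E11

open Cfsg Cfsg.Agent.GT Cfsg.Agent.Inv.Fz Subgroup Cfsg.Agent.Inv Cfsg.Agent.Spor.MJ1
  Cfsg.Agent.FG.H98.J

section Transfer
variable {G H : Type*} [Group G] [Group H] {f : H →* G}

theorem map_cent (hf : Function.Injective f) (y : H) :
    (centralizer {y}).map f = f.range ⊓ centralizer {f y} := by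
  ext x
  simp only [mem_map, mem_inf, MonoidHom.mem_range, mem_centralizer_singleton_iff]
  constructor
  · rintro ⟨z, hz, rfl⟩
    exact ⟨⟨z, rfl⟩, by rw [← map_mul, hz, map_mul]⟩
  · rintro ⟨⟨z, rfl⟩, hz⟩
    exact ⟨z, hf (by simpa using hz), rfl⟩

theorem map_norm (hf : Function.Injective f) (y : H) :
    (normalizer (zpowers y : Set H)).map f = f.range ⊓ normalizer (zpowers (f y) : Set G) := by
  ext x
  simp only [mem_map, mem_inf, MonoidHom.mem_range, ← cj_eq_iff, cj_zpowers]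
  constructor
  · rintro ⟨z, hz, rfl⟩
    exact ⟨⟨z, rfl⟩, by rw [← map_inv, ← map_mul, ← map_mul, ← MonoidHom.map_zpowers, hz,
      MonoidHom.map_zpowers]⟩
  · rintro ⟨⟨z, rfl⟩, hz⟩
    refine ⟨z, map_injective hf ?_, rfl⟩
    rw [MonoidHom.map_zpowers, MonoidHom.map_zpowers, ← hz]; simp

theorem card_cent (hf : Function.Injective f) (y : H) :
    Nat.card ↥(f.range ⊓ centralizer {f y}) = Nat.card (centralizer {y}) := by
  rw [← map_cent hf, card_map_of_injective hf]

theorem card_norm (hf : Function.Injective f) (y : H) :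
    Nat.card ↥(f.range ⊓ normalizer (zpowers (f y) : Set G)) =
      Nat.card (normalizer (zpowers y : Set H)) := by
  rw [← map_norm hf, card_map_of_injective hf]

end Transfer

theorem inv10 {H : Type*} [Group H] {t x u : H}
    (e : centralizer {t} ≃* Multiplicative (ZMod 2) × alternatingGroup (Fin 5))
    (hx : orderOf x = 10) (hxt : x ^ 5 = t) (hu : orderOf u = 2) (hc : Commute x u) : u = t := by
  have ht : orderOf t = 2 := by rw [← hxt, orderOf_pow' x (by norm_num), hx]; norm_num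
  have m : ∀ y : H, Commute y t → y ∈ centralizer {t} := fun y hy =>
    mem_centralizer_singleton_iff.2 hy.eq
  have key : ∀ a : Equiv.Perm (Fin 5), Equiv.Perm.sign a = 1 → a ^ 10 = 1 → a ^ 2 ≠ 1 →
      ∀ b : Equiv.Perm (Fin 5), a * b = b * a → b ^ 2 = 1 → b = 1 := by decide +kernel
  have k2 : ∀ a b : Multiplicative (ZMod 2), a ≠ 1 → b ≠ 1 → a = b := by decide
  have k3 : ∀ a : Multiplicative (ZMod 2), a ^ 2 = 1 := by decide
  have hxt' : Commute x t := hxt ▸ Commute.self_pow x 5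
  set X := e ⟨_, m x hxt'⟩ with hX
  have hXo : orderOf X = 10 := by rw [hX, e.orderOf_eq, ← orderOf_coe, hx]
  have main : ∀ y : H, ∀ hy : Commute y t, orderOf y = 2 → Commute x y →
      (e ⟨_, m y hy⟩).2 = 1 ∧ (e ⟨_, m y hy⟩).1 ≠ 1 := fun y hy ho hxy => by
    set Y := e ⟨_, m y hy⟩ with hY
    have hYo : orderOf Y = 2 := by rw [hY, e.orderOf_eq, ← orderOf_coe, ho]
    have hXY : X * Y = Y * X := by
      rw [hX, hY, ← map_mul, ← map_mul]; congr 1; exact Subtype.ext hxy.eq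
    have h1 : Y.2 = 1 := by
      refine Subtype.ext (key X.2 X.2.2 ?_ ?_ Y.2 ?_ ?_)
      · exact congrArg (fun z => (z.2 : Equiv.Perm (Fin 5))) (hXo ▸ pow_orderOf_eq_one X)
      · intro h
        have : X ^ 2 = 1 := Prod.ext (k3 _) (Subtype.ext h)
        have := hXo ▸ orderOf_dvd_of_pow_eq_one this
        omega
      · exact congrArg (fun z => (z.2 : Equiv.Perm (Fin 5))) hXY
      · exact congrArg (fun z => (z.2 : Equiv.Perm (Fin 5))) (hYo ▸ pow_orderOf_eq_one Y)
    refine ⟨h1, fun h => ?_⟩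
    have : Y = 1 := Prod.ext h h1
    rw [this, orderOf_one] at hYo
    omega
  obtain ⟨a1, a2⟩ := main u (hxt ▸ hc.symm.pow_right 5) hu hc
  obtain ⟨b1, b2⟩ := main t (Commute.refl _) ht hxt'
  exact congrArg Subtype.val (e.injective (Prod.ext (k2 _ _ a2 b2) (a1.trans b1.symm)))

theorem inv10' {H : Type*} [Group H] {t x u : H}
    (e : centralizer {t} ≃* Multiplicative (ZMod 2) × alternatingGroup (Fin 5))
    (hx : orderOf x = 10) (hxt : IsConj (x ^ 5) t) (hu : orderOf u = 2) (hc : Commute x u) :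
    u = x ^ 5 := by
  obtain ⟨c, hc'⟩ := isConj_iff.1 hxt
  have := inv10 (x := MulAut.conj c x) (u := MulAut.conj c u) e (by rw [MulEquiv.orderOf_eq, hx])
    (by rw [← map_pow]; exact hc') (by rw [MulEquiv.orderOf_eq, hu]) (hc.map _)
  exact (MulAut.conj c).injective (this.trans hc'.symm)

section J1
open Cfsg.Spor

theorem j1_inv10 {x u : J1} (hx : orderOf x = 10) (hu : orderOf u = 2) (hc : Commute x u) :
    u = x ^ 5 :=
  centralizer_iso.elim fun e => inv10' e hx
    (j1_conj (by rw [orderOf_pow' x (by norm_num), hx]; norm_num) orderOf_t) hu hc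

theorem j1_c5 {h : J1} (hh : orderOf h = 5) : Nat.card (centralizer {h}) = 30 := by
  have h5 : ¬ 5 ^ 2 ∣ Nat.card J1 := by rw [card_J1]; norm_num
  obtain ⟨a, ha⟩ := exists_ten
  obtain ⟨b, hb⟩ := S3627.exists_fifteen
  have d : 30 ∣ Nat.card (centralizer {h}) := Nat.lcm_dvd
    (ha ▸ dvd_cent_of_order Nat.prime_five h5 hh (by rw [ha]; norm_num))
    (hb ▸ dvd_cent_of_order Nat.prime_five h5 hh (by rw [hb]; norm_num))
  have a1 := not_dvd_cent (by norm_num) (fun _ => S3627.card_cent) hh (by norm_num)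
  have a2 := not_dvd_cent (by norm_num) (fun _ h => (data7 h).1) hh (by norm_num)
  have a3 := not_dvd_cent (by norm_num) (fun _ h => (data11 h).1) hh (by norm_num)
  have a4 : ¬ 2 ^ 2 ∣ Nat.card (centralizer {h}) := fun h4 => by
    obtain ⟨Q, hQ⟩ := Sylow.exists_subgroup_card_pow_prime 2 h4
    have := Fintype.ofFinite Q
    have hc : 2 < Fintype.card Q := by rw [← Nat.card_eq_fintype_card, hQ]; norm_num
    have ord : ∀ y : Q, y ≠ 1 → orderOf ((y : centralizer {h}) : J1) = 2 := fun y hy => by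
      have h1 : orderOf ((y : centralizer {h}) : J1) ∣ 2 ^ 2 := by
        rw [orderOf_coe, orderOf_coe, ← hQ]; exact orderOf_dvd_natCard y
      obtain ⟨k, hk, h2⟩ := (Nat.dvd_prime_pow Nat.prime_two).1 h1
      interval_cases k
      · exact absurd (Subtype.ext (Subtype.ext (orderOf_eq_one_iff.1 h2))) hy
      · exact h2
      · exact absurd (by rw [h2]; norm_num) (S3627.not_four_dvd _)
    obtain ⟨u, v, huv, hu, hv⟩ : ∃ u v : Q, u ≠ v ∧ u ≠ 1 ∧ v ≠ 1 := by
      obtain ⟨x, y, z, h1, h2, h3⟩ := Fintype.two_lt_card_iff.1 hc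
      by_cases hx : x = 1
      · exact ⟨y, z, h3, fun e => h1 (hx.trans e.symm), fun e => h2 (hx.trans e.symm)⟩
      by_cases hy : y = 1
      · exact ⟨x, z, h2, hx, fun e => h3 (hy.trans e.symm)⟩
      · exact ⟨x, y, h1, hx, hy⟩
    have hcm : Commute ((u : centralizer {h}) : J1) (v : centralizer {h}) := by
      have := IsPGroup.isMulCommutative_of_card_eq_prime_sq (p := 2) hQ
      exact congrArg (fun z : Q => ((z : centralizer {h}) : J1)) (mul_comm' u v)
    have cu : Commute h (u : centralizer {h}) :=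
      (mem_centralizer_singleton_iff.1 (u : centralizer {h}).2).symm
    have cv : Commute h (v : centralizer {h}) :=
      (mem_centralizer_singleton_iff.1 (v : centralizer {h}).2).symm
    have hx : orderOf (h * (u : centralizer {h})) = 10 := by
      rw [cu.orderOf_mul_eq_mul_orderOf_of_coprime (by rw [hh, ord u hu]; norm_num), hh, ord u hu]
    have e1 := j1_inv10 hx (ord u hu) (cu.mul_left (Commute.refl _))
    have e2 := j1_inv10 hx (ord v hv) (cv.mul_left hcm)
    exact huv (Subtype.ext (Subtype.ext (e1.trans e2.symm)))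
  have key : ∀ c ∈ Nat.divisors 5852, ¬ 19 ∣ 30 * c → ¬ 7 ∣ 30 * c → ¬ 11 ∣ 30 * c →
      ¬ 2 ^ 2 ∣ 30 * c → c = 1 := by decide +kernel
  obtain ⟨k, hk⟩ := d
  have h6 : 30 * k ∣ 30 * 5852 := by
    rw [← hk]; exact (card_subgroup_dvd_card _).trans (by rw [card_J1])
  rw [hk] at a1 a2 a3 a4 ⊢
  rw [key k (Nat.mem_divisors.2 ⟨Nat.dvd_of_mul_dvd_mul_left (by norm_num) h6, by norm_num⟩)
    a1 a2 a3 a4]

end J1

variable {G : Type*} [Group G]

/-- A line: a simple subgroup of order 660. -/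
structure Lin (L : Subgroup G) : Prop where
  simple : IsSimpleGroup L
  card : Nat.card L = 660

/-- A block: a copy of the first Janko group. -/
def Bl (J : Subgroup G) : Prop := Spor.IsoJ1 J

theorem Lin.cj {L : Subgroup G} (h : Lin L) (g : G) : Lin (cj g L) :=
  ⟨have := h.simple; (cjEquiv g L).symm.isSimpleGroup, by rw [card_cj, h.card]⟩

theorem Bl.cj {L : Subgroup G} (h : Bl L) (g : G) : Bl (cj g L) :=
  h.elim fun e => ⟨(cjEquiv g L).symm.trans e⟩

theorem Bl.exists_hom {J : Subgroup G} (h : Bl J) :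
    ∃ f : Spor.J1 →* G, Function.Injective f ∧ f.range = J := by
  obtain ⟨e⟩ := h
  refine ⟨J.subtype.comp e.symm.toMonoidHom, J.subtype_injective.comp e.symm.injective, ?_⟩
  rw [MonoidHom.range_comp, MonoidHom.range_eq_top.2 e.symm.surjective, ← MonoidHom.range_eq_map,
    range_subtype]

theorem Bl.simple {J : Subgroup G} (h : Bl J) : IsSimpleGroup J :=
  h.elim fun e => e.isSimpleGroup

theorem Bl.card {J : Subgroup G} (h : Bl J) : Nat.card J = 175560 :=
  h.elim fun e => by rw [Nat.card_congr e.toEquiv, card_J1]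

theorem Bl.not_lin {J : Subgroup G} (h : Bl J) : ¬ Lin J := fun h' => by
  have := h.card.symm.trans h'.card
  omega

theorem Bl.inner {J : Subgroup G} (h : Bl J) {x : G} (hx : x ∈ normalizer (J : Set G)) :
    ∃ j ∈ J, j⁻¹ * x ∈ centralizer (J : Set G) := by
  obtain ⟨e⟩ := h
  obtain ⟨u, hu⟩ := aut_inner ((e.symm.trans (J.normalizerMonoidHom ⟨x, hx⟩)).trans e)
  refine ⟨e.symm u, (e.symm u).2, fun y hy => ?_⟩
  have h1 := congrArg (fun φ => ((e.symm (φ (e ⟨y, hy⟩)) : J) : G)) hu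
  simp only [MulAut.conj_apply, map_mul, map_inv, MulEquiv.symm_apply_apply, coe_mul, coe_inv,
    MulEquiv.trans_apply] at h1
  have h2 : ((J.normalizerMonoidHom ⟨x, hx⟩ ⟨y, hy⟩ : J) : G) = x * y * x⁻¹ := rfl
  rw [h2] at h1
  calc y * ((e.symm u : G)⁻¹ * x) = (e.symm u : G)⁻¹ * ((e.symm u : G) * y * (e.symm u : G)⁻¹) * x := by
        group
    _ = _ := by rw [h1]; group

theorem Bl.c11 {J : Subgroup G} (h : Bl J) {a : G} (ha : a ∈ J) (ho : orderOf a = 11) :
    Nat.card ↥(J ⊓ centralizer {a}) = 11 ∧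
      Nat.card ↥(J ⊓ normalizer (zpowers a : Set G)) = 110 := by
  obtain ⟨f, hf, rfl⟩ := h.exists_hom
  obtain ⟨y, rfl⟩ := ha
  rw [orderOf_injective f hf] at ho
  rw [card_cent hf, card_norm hf]
  exact data11 ho

theorem Bl.c5 {J : Subgroup G} (h : Bl J) {a : G} (ha : a ∈ J) (ho : orderOf a = 5) :
    Nat.card ↥(J ⊓ centralizer {a}) = 30 := by
  obtain ⟨f, hf, rfl⟩ := h.exists_hom
  obtain ⟨y, rfl⟩ := ha
  rw [orderOf_injective f hf] at ho
  rw [card_cent hf]
  exact j1_c5 ho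

theorem Bl.no4 {J : Subgroup G} (h : Bl J) {a : G} (ha : a ∈ J) : ¬ 4 ∣ orderOf a := by
  obtain ⟨f, hf, rfl⟩ := h.exists_hom
  obtain ⟨y, rfl⟩ := ha
  rw [orderOf_injective f hf]
  exact S3627.not_four_dvd y

theorem Bl.no30 {J : Subgroup G} (h : Bl J) {a : G} (ha : a ∈ J) : ¬ 30 ∣ orderOf a := by
  obtain ⟨f, hf, rfl⟩ := h.exists_hom
  obtain ⟨y, rfl⟩ := ha
  rw [orderOf_injective f hf]
  exact not_thirty y

theorem Bl.conj {J : Subgroup G} (h : Bl J) {t u : G} (ht : t ∈ J) (hu : u ∈ J)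
    (h1 : orderOf t = 2) (h2 : orderOf u = 2) : ∃ j ∈ J, j * t * j⁻¹ = u := by
  obtain ⟨f, hf, rfl⟩ := h.exists_hom
  obtain ⟨y, rfl⟩ := ht
  obtain ⟨z, rfl⟩ := hu
  rw [orderOf_injective f hf] at h1 h2
  obtain ⟨c, rfl⟩ := isConj_iff.1 (j1_conj h1 h2)
  exact ⟨f c, ⟨c, rfl⟩, by simp⟩

variable [Finite G]

theorem Bl.c10 {J : Subgroup G} (h : Bl J) {x w : G} (hx : x ∈ J) (ho : orderOf x = 10)
    (hw : w ∈ J) (hc : Commute w x) : w ∈ zpowers x := by
  have h5 : orderOf (x ^ 2) = 5 := by rw [orderOf_pow' x (by norm_num), ho]; norm_num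
  have hle : zpowers x ≤ J ⊓ centralizer {x} :=
    zpowers_le.2 ⟨hx, mem_centralizer_singleton_iff.2 rfl⟩
  have h30 : Nat.card ↥(J ⊓ centralizer {x}) ∣ 30 := by
    rw [← h.c5 (pow_mem hx 2) h5]
    refine card_dvd_of_le (inf_le_inf_left _ fun y hy => ?_)
    rw [mem_centralizer_singleton_iff] at hy ⊢
    exact (Commute.pow_right hy 2).eq
  have h10 : 10 ∣ Nat.card ↥(J ⊓ centralizer {x}) := by
    rw [← ho, ← Nat.card_zpowers]; exact card_dvd_of_le hle
  have h3 : ¬ 3 ∣ Nat.card ↥(J ⊓ centralizer {x}) := fun h3 => by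
    obtain ⟨y, hy, hy3⟩ := exists_mem_orderOf_eq_prime Nat.prime_three h3
    have hc : Commute y x := mem_centralizer_singleton_iff.1 hy.2
    refine h.no30 (mul_mem hy.1 hx) ?_
    rw [hc.orderOf_mul_eq_mul_orderOf_of_coprime (by rw [hy3, ho]; norm_num), hy3, ho]
  have key : ∀ c ∈ Nat.divisors 30, 10 ∣ c → ¬ 3 ∣ c → c = 10 := by decide
  have := key _ (Nat.mem_divisors.2 ⟨h30, by norm_num⟩) h10 h3
  rw [eq_of_le_of_card_ge hle (by rw [this, Nat.card_zpowers, ho])]
  exact ⟨hw, mem_centralizer_singleton_iff.2 hc.eq⟩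

/-- Burnside's theorem in a simple subgroup with a Sylow subgroup of prime order. -/
theorem sub_data {L : Subgroup G} (hs : IsSimpleGroup L) (hn : ¬ (Nat.card L).Prime) {p : ℕ}
    (hp : p.Prime) (h2 : ¬ p ^ 2 ∣ Nat.card L) {x : G} (hx : x ∈ L) (ho : orderOf x = p) :
    ∃ n e v, Nat.card ↥(L ⊓ centralizer {x}) = v * p ∧
      Nat.card ↥(L ⊓ normalizer (zpowers x : Set G)) = e * (v * p) ∧
      n * (e * (v * p)) = Nat.card L ∧ n % p = 1 ∧ 1 < n ∧ e ∣ p - 1 ∧ 1 < e := by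
  have := Fact.mk hp
  obtain ⟨n, e, v, -, h1, h3, h4⟩ := PS.prime_data hn h2 (x := ⟨x, hx⟩)
    (by rw [← orderOf_coe]; exact ho)
  have a := card_cent L.subtype_injective ⟨x, hx⟩
  have b := card_norm L.subtype_injective ⟨x, hx⟩
  rw [range_subtype] at a b
  exact ⟨n, e, v, a.trans h1, b.trans h3, h4⟩

theorem exists_norm_not_comm {L : Subgroup G} (hs : IsSimpleGroup L) (hn : ¬ (Nat.card L).Prime)
    {p : ℕ} (hp : p.Prime) (h2 : ¬ p ^ 2 ∣ Nat.card L) {x : G} (hx : x ∈ L) (ho : orderOf x = p) :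
    ∃ w ∈ L, w ∈ normalizer (zpowers x : Set G) ∧ ¬ Commute w x := by
  obtain ⟨n, e, v, h1, h3, -, -, -, -, he⟩ := sub_data hs hn hp h2 hx ho
  by_contra hc
  push Not at hc
  have := card_le_of_le (show L ⊓ normalizer (zpowers x : Set G) ≤ L ⊓ centralizer {x} from
    fun w hw => ⟨hw.1, mem_centralizer_singleton_iff.2 (hc w hw.1 hw.2).eq⟩)
  have h0 : 0 < v * p := h1 ▸ Nat.card_pos
  rw [h1, h3] at this
  nlinarith

theorem Lin.c11 {L : Subgroup G} (h : Lin L) {a : G} (ha : a ∈ L) (ho : orderOf a = 11) :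
    Nat.card ↥(L ⊓ centralizer {a}) = 11 ∧
      Nat.card ↥(L ⊓ normalizer (zpowers a : Set G)) = 55 := by
  obtain ⟨n, e, v, h1, h3, h4, h5, h6, h7, h8⟩ := sub_data h.simple (by rw [h.card]; norm_num)
    (by norm_num) (by rw [h.card]; norm_num) ha ho
  rw [h.card] at h4
  have h9 : n * (e * v) = 60 := by linarith
  have key : ∀ n ∈ Nat.divisors 60, n % 11 = 1 → 1 < n → n = 12 := by decide
  obtain rfl := key n (Nat.mem_divisors.2 ⟨⟨_, h9.symm⟩, by norm_num⟩) h5 h6
  have h10 : e * v = 5 := by omega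
  have : e = 5 := ((Nat.dvd_prime Nat.prime_five).1 ⟨v, h10.symm⟩).resolve_left (by omega)
  subst this
  obtain rfl : v = 1 := by omega
  exact ⟨h1, h3⟩

end Cfsg.Agent.E11
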