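import Mathlib
import Cfsg.Agent.E11.Loc

/-! Multipliers of elements normalising a subgroup of order 11. -/

set_option autoImplicit false

namespace Cfsg.Agent.E11

open Cfsg Cfsg.Agent.GT Cfsg.Agent.Inv.Fz Subgroup

variable {G : Type*} [Group G] {B : Subgroup G} {x y : G}

open Classical in
/-- The power to which `x` raises the elements of `B` by conjugation. -/
noncomputable def mu (B : Subgroup G) (x : G) : ZMod 11 :=
  if h : ∃ k : ZMod 11, ∀ a ∈ B, x * a * x⁻¹ = a ^ k.val then h.choose else 0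

theorem ord11 (hB : Nat.card B = 11) {a : G} (ha : a ∈ B) (h1 : a ≠ 1) : orderOf a = 11 :=
  ((Nat.dvd_prime (by norm_num)).1 (hB ▸ B.orderOf_dvd_natCard ha)).resolve_left
    (by rwa [orderOf_eq_one_iff])

theorem pow11 (hB : Nat.card B = 11) {a : G} (ha : a ∈ B) : a ^ 11 = 1 :=
  orderOf_dvd_iff_pow_eq_one.1 (hB ▸ B.orderOf_dvd_natCard ha)

theorem zpowers11 (hB : Nat.card B = 11) {a : G} (ha : a ∈ B) (h1 : a ≠ 1) : zpowers a = B := by
  have : Finite B := Nat.finite_of_card_ne_zero (by omega)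
  exact eq_of_le_of_card_ge (zpowers_le.2 ha) (by rw [Nat.card_zpowers, ord11 hB ha h1, hB])

theorem exists11 (hB : Nat.card B = 11) : ∃ a ∈ B, a ≠ 1 := by
  by_contra h
  push Not at h
  rw [(eq_bot_iff_forall B).2 h, card_bot] at hB
  omega

theorem comm11 (hB : Nat.card B = 11) {a b : G} (ha : a ∈ B) (hb : b ∈ B) : Commute a b := by
  obtain ⟨c, hc, h1⟩ := exists11 hB
  rw [← zpowers11 hB hc h1] at ha hb
  obtain ⟨i, rfl⟩ := ha
  obtain ⟨j, rfl⟩ := hb
  exact Commute.zpow_zpow_self c i j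

theorem le_cent11 (hB : Nat.card B = 11) : B ≤ centralizer (B : Set G) :=
  fun _ ha _ hb => (comm11 hB hb ha).eq

theorem val_inj {a : G} (ha : orderOf a = 11) {k l : ZMod 11} (h : a ^ k.val = a ^ l.val) :
    k = l :=
  ZMod.val_injective 11 (pow_injOn_Iio_orderOf (by rw [ha]; exact k.val_lt) (by rw [ha]; exact l.val_lt) h)

theorem pow_val_mul {a : G} (ha : a ^ 11 = 1) (k l : ZMod 11) :
    a ^ (k * l).val = (a ^ k.val) ^ l.val := by
  rw [ZMod.val_mul, ← pow_mul, ← pow_eq_pow_mod _ ha]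

theorem mu_spec (hB : Nat.card B = 11) (hx : x ∈ normalizer (B : Set G)) {a : G} (ha : a ∈ B) :
    x * a * x⁻¹ = a ^ (mu B x).val := by
  have h : ∃ k : ZMod 11, ∀ a ∈ B, x * a * x⁻¹ = a ^ k.val := by
    obtain ⟨c, hc, h1⟩ := exists11 hB
    have h2 : x * c * x⁻¹ ∈ zpowers c := by
      rw [zpowers11 hB hc h1]; exact (mem_normalizer_iff.1 hx c).1 hc
    obtain ⟨i, hi⟩ := (isOfFinOrder_iff_pow_eq_one.2
      ⟨11, by norm_num, pow11 hB hc⟩).mem_powers_iff_mem_zpowers.2 h2
    refine ⟨(i : ZMod 11), fun a ha => ?_⟩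
    rw [ZMod.val_natCast, ← pow_eq_pow_mod _ (pow11 hB ha)]
    rw [← zpowers11 hB hc h1] at ha
    obtain ⟨j, rfl⟩ := ha
    simp only at hi ⊢
    rw [← conj_zpow, ← hi, ← zpow_natCast, ← zpow_natCast, ← zpow_mul, ← zpow_mul, mul_comm]
  rw [mu, dif_pos h]
  exact h.choose_spec a ha

theorem mu_eq (hB : Nat.card B = 11) (hx : x ∈ normalizer (B : Set G)) {a : G} (ha : a ∈ B)
    (h1 : a ≠ 1) {k : ZMod 11} (h : x * a * x⁻¹ = a ^ k.val) : mu B x = k :=
  val_inj (ord11 hB ha h1) ((mu_spec hB hx ha).symm.trans h)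

theorem mu_mul (hB : Nat.card B = 11) (hx : x ∈ normalizer (B : Set G))
    (hy : y ∈ normalizer (B : Set G)) : mu B (x * y) = mu B x * mu B y := by
  obtain ⟨c, hc, h1⟩ := exists11 hB
  refine mu_eq hB (mul_mem hx hy) hc h1 ?_
  rw [pow_val_mul (pow11 hB hc), ← mu_spec hB hx hc, conj_pow, ← mu_spec hB hy hc]
  group

theorem mu_eq_one_iff (hB : Nat.card B = 11) (hx : x ∈ normalizer (B : Set G)) :
    mu B x = 1 ↔ x ∈ centralizer (B : Set G) := by
  have h0 : (1 : ZMod 11).val = 1 := rfl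
  constructor
  · intro h a ha
    have := mu_spec hB hx ha
    rw [h, h0, pow_one, mul_inv_eq_iff_eq_mul] at this
    exact this.symm
  · intro h
    obtain ⟨c, hc, h1⟩ := exists11 hB
    refine mu_eq hB hx hc h1 ?_
    rw [h0, pow_one, ← h c hc, mul_inv_cancel_right]

theorem mu_of_cent (hB : Nat.card B = 11) (hx : x ∈ centralizer (B : Set G)) : mu B x = 1 :=
  (mu_eq_one_iff hB (centralizer_le_normalizer _ hx)).2 hx

theorem mu_one (hB : Nat.card B = 11) : mu B 1 = 1 := mu_of_cent hB (one_mem _)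

theorem mu_pow (hB : Nat.card B = 11) (hx : x ∈ normalizer (B : Set G)) (n : ℕ) :
    mu B (x ^ n) = mu B x ^ n := by
  induction n with
  | zero => rw [pow_zero, pow_zero, mu_one hB]
  | succ n ih => rw [pow_succ, mu_mul hB (pow_mem hx n) hx, ih, pow_succ]

theorem mu_mul_inv (hB : Nat.card B = 11) (hx : x ∈ normalizer (B : Set G)) :
    mu B x * mu B x⁻¹ = 1 := by
  rw [← mu_mul hB hx (inv_mem hx), mul_inv_cancel, mu_one hB]

theorem mu_ne_zero (hB : Nat.card B = 11) (hx : x ∈ normalizer (B : Set G)) : mu B x ≠ 0 := by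
  intro h
  have := mu_mul_inv hB hx
  rw [h, zero_mul] at this
  exact absurd this (by decide)

theorem mu_cj (hB : Nat.card B = 11) (hx : x ∈ normalizer (B : Set G)) (g : G) :
    mu (cj g B) (g * x * g⁻¹) = mu B x := by
  obtain ⟨c, hc, h1⟩ := exists11 hB
  refine mu_eq (a := g * c * g⁻¹) (by rw [card_cj, hB])
    (by rw [← cj_normalizer]; exact conj_mem_cj.2 hx) (conj_mem_cj.2 hc) (by simpa using h1) ?_
  rw [conj_pow, ← mu_spec hB hx hc]
  group

/-- Two elements of the normaliser with the same multiplier differ by a centralising element. -/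
theorem inv_mul_mem_cent (hB : Nat.card B = 11) (hx : x ∈ normalizer (B : Set G))
    (hy : y ∈ normalizer (B : Set G)) (h : mu B x = mu B y) :
    x⁻¹ * y ∈ centralizer (B : Set G) := by
  rw [← mu_eq_one_iff hB (mul_mem (inv_mem hx) hy), mu_mul hB (inv_mem hx) hy, ← h, mul_comm,
    mu_mul_inv hB hx]

theorem eq_one_of_comm (hB : Nat.card B = 11) (hx : x ∈ normalizer (B : Set G)) (h1 : mu B x ≠ 1)
    {b : G} (hb : b ∈ B) (hc : Commute x b) : b = 1 := by
  by_contra h
  exact h1 (mu_eq hB hx hb h (by rw [hc.eq, mul_inv_cancel_right]; exact (pow_one b).symm))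

/-- In a coset of `B` with a non-trivial multiplier all elements are conjugate under `B`. -/
theorem exists_conj11 (hB : Nat.card B = 11) (hx : x ∈ normalizer (B : Set G)) (h1 : mu B x ≠ 1)
    (hy : x⁻¹ * y ∈ B) : ∃ b ∈ B, b * x * b⁻¹ = y := by
  have : Finite B := Nat.finite_of_card_ne_zero (by omega)
  have hm : ∀ b ∈ B, x⁻¹ * b * x ∈ B := fun b hb => by
    simpa using (mem_normalizer_iff.1 (inv_mem hx) b).1 hb
  let f : B → B := fun b => ⟨x⁻¹ * b * x * (b : G)⁻¹, mul_mem (hm b b.2) (inv_mem b.2)⟩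
  have hf : Function.Injective f := by
    intro b c h
    have h2 : x⁻¹ * b * x * (b : G)⁻¹ = x⁻¹ * c * x * (c : G)⁻¹ := congrArg Subtype.val h
    have h3 : Commute x ((c : G)⁻¹ * b) := by
      have h4 : (b : G) * x * (b : G)⁻¹ = c * x * (c : G)⁻¹ := by
        have := congrArg (x * ·) h2
        simpa [mul_assoc] using this
      calc x * ((c : G)⁻¹ * b) = (c : G)⁻¹ * (c * x * (c : G)⁻¹) * b := by group
        _ = (c : G)⁻¹ * b * x := by rw [← h4]; group
    have := eq_one_of_comm hB hx h1 (mul_mem (inv_mem c.2) b.2) h3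
    exact Subtype.ext (inv_mul_eq_one.1 this).symm
  obtain ⟨b, hb⟩ := Finite.injective_iff_surjective.1 hf ⟨_, hy⟩
  refine ⟨b, b.2, ?_⟩
  have h2 : x⁻¹ * b * x * (b : G)⁻¹ = x⁻¹ * y := congrArg Subtype.val hb
  have := congrArg (x * ·) h2
  simpa [mul_assoc] using this

end Cfsg.Agent.E11
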