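import Mathlib
import Cfsg.Agent.E11.Mu

/-! A class of subgroups of order 11 whose pairs generate lines or blocks: fixed points and
multipliers. -/

set_option autoImplicit false
set_option linter.unusedSectionVars false

namespace Cfsg.Agent.E11

open Cfsg Cfsg.Agent.GT Cfsg.Agent.Inv.Fz Subgroup MulAction

variable {G X : Type*} [Group G] [MulAction G X]

/-- A line or a block. -/
def LB (L : Subgroup G) : Prop := Lin L ∨ Bl L

theorem LB.simple {L : Subgroup G} (h : LB L) : IsSimpleGroup L := h.elim Lin.simple Bl.simple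

theorem LB.card {L : Subgroup G} (h : LB L) : Nat.card L = 660 ∨ Nat.card L = 175560 :=
  h.imp Lin.card Bl.card

theorem LB.cj {L : Subgroup G} (h : LB L) (g : G) : LB (cj g L) := h.imp (·.cj g) (·.cj g)

theorem LB.eq_of_normal {L N : Subgroup G} (h : LB L) (hN : L ≤ normalizer (N : Set G)) :
    L ⊓ N = ⊥ ∨ L ≤ N := by
  have := h.simple
  have hn : (N.subgroupOf L).Normal := (normal_subgroupOf_iff_le_normalizer_inf).2 (by
    intro x hx
    rw [← cj_eq_iff, cj_inf, cj_eq_of_mem hx, cj_eq_iff.2 (hN hx)])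
  rcases hn.eq_bot_or_eq_top with h1 | h1
  · left; rw [subgroupOf_eq_bot, disjoint_iff, inf_comm] at h1; exact h1
  · right; exact subgroupOf_eq_top.1 h1

theorem ncard_orbit [Finite G] (L : Subgroup G) (p : X) :
    Nat.card ↥(L ⊓ stabilizer G p) * (orbit L p).ncard = Nat.card L := by
  rw [← index_stabilizer, ← Inv.Fz.card_mul_relIndex (inf_le_left (a := L) (b := stabilizer G p)),
    inf_relIndex_left]
  rfl

/-- Points `p : X` carry subgroups `A p` of order 11, any two generating a line or a block. -/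
structure Geo (A : X → Subgroup G) : Prop where
  inj : Function.Injective A
  smul : ∀ (g : G) p, A (g • p) = cj g (A p)
  card : ∀ p, Nat.card (A p) = 11
  pair : ∀ p q, p ≠ q → LB (A p ⊔ A q)

namespace Geo

variable {A : X → Subgroup G} (H : Geo A) {p q r : X} {x y : G} {L : Subgroup G}
include H

theorem fix_iff : x • p = p ↔ x ∈ normalizer (A p : Set G) := by
  rw [← cj_eq_iff, ← H.smul, H.inj.eq_iff]

theorem fix_of_cent (h : x ∈ centralizer (A p : Set G)) : x • p = p :=
  H.fix_iff.2 (centralizer_le_normalizer _ h)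

theorem fix_of_mem (h : x ∈ A p) : x • p = p := H.fix_iff.2 (le_normalizer h)

theorem cent_of_le (hp : A p ≤ L) (h : x ∈ centralizer (L : Set G)) :
    x ∈ centralizer (A p : Set G) := centralizer_le hp h

theorem smul_le (hx : x ∈ normalizer (L : Set G)) (hp : A p ≤ L) : A (x • p) ≤ L := by
  rw [H.smul, ← cj_eq_iff.2 hx]; exact cj_mono hp

theorem smul_le' (hx : x ∈ L) (hp : A p ≤ L) : A (x • p) ≤ L := H.smul_le (le_normalizer hx) hp

theorem cj_pair (g : G) : cj g (A p ⊔ A q) = A (g • p) ⊔ A (g • q) := by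
  rw [cj_sup, H.smul, H.smul]

theorem norm_pair (hp : x • p = p) (hq : x • q = q) : x ∈ normalizer (↑(A p ⊔ A q) : Set G) := by
  rw [← cj_eq_iff, H.cj_pair, hp, hq]

theorem norm_swap (hp : x • p = q) (hq : x • q = p) : x ∈ normalizer (↑(A p ⊔ A q) : Set G) := by
  rw [← cj_eq_iff, H.cj_pair, hp, hq, sup_comm]

theorem mmul (hx : x • p = p) (hy : y • p = p) : mu (A p) (x * y) = mu (A p) x * mu (A p) y :=
  mu_mul (H.card p) (H.fix_iff.1 hx) (H.fix_iff.1 hy)

theorem mpow (hx : x • p = p) (n : ℕ) : mu (A p) (x ^ n) = mu (A p) x ^ n :=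
  mu_pow (H.card p) (H.fix_iff.1 hx) n

theorem mne (hx : x • p = p) : mu (A p) x ≠ 0 := mu_ne_zero (H.card p) (H.fix_iff.1 hx)

theorem mone (hx : x • p = p) : mu (A p) x = 1 ↔ x ∈ centralizer (A p : Set G) :=
  mu_eq_one_iff (H.card p) (H.fix_iff.1 hx)

theorem mcent (hx : x ∈ centralizer (A p : Set G)) : mu (A p) x = 1 := mu_of_cent (H.card p) hx

theorem minv (hx : x • p = p) : mu (A p) x * mu (A p) x⁻¹ = 1 :=
  mu_mul_inv (H.card p) (H.fix_iff.1 hx)

theorem mcj (hx : x • p = p) (g : G) : mu (A (g • p)) (g * x * g⁻¹) = mu (A p) x := by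
  rw [H.smul, mu_cj (H.card p) (H.fix_iff.1 hx)]

theorem mcj' (hx : x • p = p) (hy : y • p = p) : mu (A p) (y * x * y⁻¹) = mu (A p) x := by
  have := H.mcj hx y
  rwa [hy] at this

theorem mcomm (hx : x • p = p) (hc : Commute y x) : mu (A (y • p)) x = mu (A p) x := by
  have := H.mcj hx y
  rwa [hc.eq, mul_inv_cancel_right] at this

theorem mord (hx : x • p = p) {n : ℕ} (h : x ^ n = 1) : mu (A p) x ^ n = 1 := by
  rw [← H.mpow hx, h, mu_one (H.card p)]

omit H in
theorem fix_pow (hx : x • p = p) (n : ℕ) : x ^ n • p = p :=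
  mem_stabilizer_iff.1 (pow_mem (mem_stabilizer_iff.2 hx) n)

omit H in
theorem fix_inv (hx : x • p = p) : x⁻¹ • p = p := inv_smul_eq_iff.2 hx.symm

omit H in
theorem fix_mul (hx : x • p = p) (hy : y • p = p) : (x * y) • p = p := by rw [mul_smul, hy, hx]

omit H in
theorem fix_conj (hx : x • p = p) (g : G) : (g * x * g⁻¹) • g • p = g • p := by
  rw [mul_smul, inv_smul_smul, mul_smul, hx]

omit H in
theorem fix_comm (hx : x • p = p) (hc : Commute y x) : x • y • p = y • p := by
  rw [← mul_smul, ← hc.eq, mul_smul, hx]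

/-- A non-trivial element of a point fixes no other point. -/
theorem eq_one_of_fix (hx : x ∈ A p) (hq : x • q = q) (hpq : p ≠ q) : x = 1 := by
  by_contra h1
  have hL := H.pair p q hpq
  have h2 : A p ≤ normalizer (A q : Set G) := by
    rw [← zpowers11 (H.card p) hx h1, zpowers_le]; exact H.fix_iff.1 hq
  rcases hL.eq_of_normal (sup_le h2 le_normalizer) with h | h
  · have := H.card q
    rw [inf_eq_right.2 le_sup_right] at h
    rw [h, card_bot] at this
    omega
  · have h3 := hL.card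
    rw [le_antisymm h le_sup_right, H.card] at h3
    omega

variable [Finite G]

theorem syl (hL : LB L) (hp : A p ≤ L) : IsSylIn 11 (A p) L := by
  have : Fact (Nat.Prime 11) := ⟨by norm_num⟩
  refine isSylIn_of_not_dvd hp (IsPGroup.of_card (n := 1) (H.card p)) ?_
  have := Inv.Fz.card_mul_relIndex hp
  rw [H.card] at this
  rcases hL.card with h | h <;> omega

theorem trans_in (hL : LB L) (hp : A p ≤ L) (hq : A q ≤ L) : ∃ w ∈ L, w • p = q := by
  have : Fact (Nat.Prime 11) := ⟨by norm_num⟩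
  obtain ⟨g, hg, h⟩ := (H.syl hL hq).exists_cj_eq (H.syl hL hp)
  exact ⟨g, hg, H.inj (by rw [H.smul, h])⟩

theorem trans (p q : X) : ∃ w : G, w • p = q := by
  by_cases h : p = q
  · exact ⟨1, by rw [one_smul, h]⟩
  · obtain ⟨w, -, hw⟩ := H.trans_in (H.pair p q h) le_sup_left le_sup_right
    exact ⟨w, hw⟩

theorem stab_eq {a : G} (ha : a ∈ A p) (h1 : a ≠ 1) :
    stabilizer G p = normalizer (zpowers a : Set G) := by
  ext x
  rw [mem_stabilizer_iff, H.fix_iff, zpowers11 (H.card p) ha h1]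

theorem card_stab_lin (hL : Lin L) (hp : A p ≤ L) : Nat.card ↥(L ⊓ stabilizer G p) = 55 := by
  obtain ⟨a, ha, h1⟩ := exists11 (H.card p)
  rw [H.stab_eq ha h1, (hL.c11 (hp ha) (ord11 (H.card p) ha h1)).2]

theorem card_stab_bl (hL : Bl L) (hp : A p ≤ L) : Nat.card ↥(L ⊓ stabilizer G p) = 110 := by
  obtain ⟨a, ha, h1⟩ := exists11 (H.card p)
  rw [H.stab_eq ha h1, (hL.c11 (hp ha) (ord11 (H.card p) ha h1)).2]

/-- Points are self-centralising in lines and blocks. -/
theorem mem_of_cent (hL : LB L) (hp : A p ≤ L) (hx : x ∈ L) (hc : x ∈ centralizer (A p : Set G)) :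
    x ∈ A p := by
  obtain ⟨a, ha, h1⟩ := exists11 (H.card p)
  have ho := ord11 (H.card p) ha h1
  have h2 : Nat.card ↥(L ⊓ centralizer {a}) = 11 :=
    hL.elim (fun h => (h.c11 (hp ha) ho).1) fun h => (h.c11 (hp ha) ho).1
  have h3 : A p ≤ L ⊓ centralizer {a} := fun b hb =>
    ⟨hp hb, mem_centralizer_singleton_iff.2 (comm11 (H.card p) hb ha).eq⟩
  rw [eq_of_le_of_card_ge h3 (by rw [h2, H.card])]
  exact ⟨hx, mem_centralizer_singleton_iff.2 (hc a ha).symm⟩

theorem eq_one_of_two (hL : LB L) (hp : A p ≤ L) (hx : x ∈ L) (hpq : p ≠ q) (h1 : x • p = p)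
    (h2 : x • q = q) (hm : mu (A p) x = 1) : x = 1 :=
  H.eq_one_of_fix (H.mem_of_cent hL hp hx ((H.mone h1).1 hm)) h2 hpq

/-- A point of a line is transitive on the other points of the line. -/
theorem lin_reg (hL : Lin L) (hp : A p ≤ L) (hq : A q ≤ L) (hr : A r ≤ L) (hpq : p ≠ q)
    (hpr : p ≠ r) : ∃ a ∈ A p, a • q = r := by
  have h12 : (orbit L p).ncard = 12 := by
    have := ncard_orbit L p
    rw [H.card_stab_lin hL hp, hL.card] at this
    omega
  have hS : ∀ s, s ∈ orbit L p ↔ A s ≤ L := fun s =>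
    ⟨by rintro ⟨w, rfl⟩; exact H.smul_le' w.2 hp, fun h => by
      obtain ⟨w, hw, rfl⟩ := H.trans_in (Or.inl hL) hp h
      exact ⟨⟨w, hw⟩, rfl⟩⟩
  have hfin : (orbit L p).Finite := Set.finite_of_ncard_ne_zero (by omega)
  have h11 : (orbit (A p) q).ncard = 11 := by
    have := ncard_orbit (A p) q
    rw [(eq_bot_iff_forall (A p ⊓ stabilizer G q)).2 fun a ha =>
      H.eq_one_of_fix ha.1 ha.2 hpq, card_bot, H.card] at this
    omega
  have hsub : orbit (A p) q ⊆ orbit L p \ {p} := by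
    rintro _ ⟨a, rfl⟩
    refine ⟨(hS _).2 (H.smul_le' (hp a.2) hq), fun h => hpq ?_⟩
    have h1 : (a : G) • q = p := h
    exact (smul_left_cancel _ (h1.trans (H.fix_of_mem a.2).symm)).symm
  have heq := Set.eq_of_subset_of_ncard_le hsub (by
    rw [Set.ncard_sdiff_singleton_of_mem (mem_orbit_self p), h11, h12]) (hfin.subset Set.sdiff_subset)
  obtain ⟨a, ha⟩ : r ∈ orbit (A p) q := heq ▸ ⟨(hS r).2 hr, hpr.symm⟩
  exact ⟨a, a.2, ha⟩

/-- An element normalising a line or block and centralising one of its points acts on it as an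
element of that point. -/
theorem exists_mul_cent (hL : LB L) (hp : A p ≤ L) (hq : A q ≤ L) (hpq : p ≠ q)
    (hx : x ∈ normalizer (L : Set G)) (hc : x ∈ centralizer (A p : Set G)) :
    ∃ a ∈ A p, a⁻¹ * x ∈ centralizer (L : Set G) := by
  rcases hL with hL | hL
  swap
  · obtain ⟨j, hj, h⟩ := hL.inner hx
    refine ⟨j, H.mem_of_cent (Or.inr hL) hp hj ?_, h⟩
    have := mul_mem hc (inv_mem (H.cent_of_le hp h))
    simpa using this
  have hxp := H.fix_of_cent hc
  obtain ⟨a, ha, h⟩ := H.lin_reg hL hp hq (H.smul_le hx hq) hpq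
    (fun e => hpq (smul_left_cancel x (hxp.trans e)))
  refine ⟨a, ha, ?_⟩
  set z := a⁻¹ * x with hz
  have z1 : z ∈ centralizer (A p : Set G) := mul_mem (inv_mem (le_cent11 (H.card p) ha)) hc
  have z2 : z • q = q := by rw [hz, mul_smul, ← h, inv_smul_smul]
  have z3 : z ∈ normalizer (L : Set G) := mul_mem (inv_mem (le_normalizer (hp ha))) hx
  have z4 : ∀ r, A r ≤ L → z • r = r := fun r hr => by
    by_cases hpr : p = r
    · exact hpr ▸ H.fix_of_cent z1
    · obtain ⟨b, hb, rfl⟩ := H.lin_reg hL hp hq hr hpq hpr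
      exact fix_comm z2 (z1 b hb)
  let N : Subgroup G := ⨅ r : {r // A r ≤ L}, stabilizer G r.1
  have hN : ∀ c, c ∈ N ↔ ∀ r, A r ≤ L → c • r = r := fun c => by
    simp only [N, mem_iInf, mem_stabilizer_iff, Subtype.forall]
  have hLN : L ≤ normalizer (N : Set G) := fun l hl => by
    rw [← cj_eq_iff]
    refine cj_eq_of_le (cj_le_iff.2 fun c hc => (hN _).2 fun r hr => ?_)
    rw [mul_smul, mul_smul, (hN c).1 hc _ (H.smul_le' (inv_mem hl) hr), smul_inv_smul]
  rcases LB.eq_of_normal (Or.inl hL) hLN with h0 | h0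
  · intro l (hl : l ∈ L)
    have : z * l * z⁻¹ * l⁻¹ ∈ L ⊓ N := by
      refine ⟨L.mul_mem ((mem_normalizer_iff.1 z3 l).1 hl) (L.inv_mem hl), (hN _).2 fun r hr => ?_⟩
      rw [mul_smul, mul_smul, fix_inv (z4 _ (H.smul_le' (inv_mem hl) hr)), mul_smul,
        smul_inv_smul, z4 r hr]
    rw [h0, mem_bot, mul_inv_eq_one, mul_inv_eq_iff_eq_mul] at this
    exact this.symm
  · obtain ⟨b, hb, h1⟩ := exists11 (H.card p)
    exact absurd (H.eq_one_of_fix hb ((hN b).1 (h0 (hp hb)) q hq) hpq) h1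

/-- An element centralising one point and fixing another centralises both. -/
theorem cent_pair (hc : x ∈ centralizer (A p : Set G)) (hq : x • q = q) (hpq : p ≠ q) :
    x ∈ centralizer (↑(A p ⊔ A q) : Set G) := by
  obtain ⟨a, ha, h⟩ := H.exists_mul_cent (H.pair p q hpq) le_sup_left le_sup_right hpq
    (H.norm_pair (H.fix_of_cent hc) hq) hc
  have h1 := H.fix_of_cent (H.cent_of_le le_sup_right h)
  rw [mul_smul, hq] at h1
  have h2 := H.eq_one_of_fix (inv_mem ha) h1 hpq
  rwa [h2, one_mul] at h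

theorem cent_of_fix (hc : x ∈ centralizer (A p : Set G)) (hq : x • q = q) :
    x ∈ centralizer (A q : Set G) := by
  by_cases hpq : p = q
  · exact hpq ▸ hc
  · exact H.cent_of_le le_sup_right (H.cent_pair hc hq hpq)

theorem mone_iff (hp : x • p = p) (hq : x • q = q) : mu (A p) x = 1 ↔ mu (A q) x = 1 := by
  rw [H.mone hp, H.mone hq]
  exact ⟨fun h => H.cent_of_fix h hq, fun h => H.cent_of_fix h hp⟩

theorem mpow_iff (hp : x • p = p) (hq : x • q = q) (n : ℕ) :
    mu (A p) x ^ n = 1 ↔ mu (A q) x ^ n = 1 := by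
  rw [← H.mpow hp, ← H.mpow hq, H.mone_iff (fix_pow hp n) (fix_pow hq n)]

end Geo

end Cfsg.Agent.E11
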