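import Mathlib
import Cfsg.Agent.E11.Geo

/-! Relations between the multipliers of an element at two fixed points. -/

set_option autoImplicit false
set_option linter.unusedSectionVars false

namespace Cfsg.Agent.E11

open Cfsg Cfsg.Agent.GT Cfsg.Agent.Inv.Fz Subgroup MulAction

variable {G X : Type*} [Group G] [MulAction G X]

theorem exists_fix_of_odd {S : Set X} (hS : Odd S.ncard) {i : G} (hi : i * i = 1)
    (hm : ∀ s ∈ S, i • s ∈ S) : ∃ s ∈ S, i • s = s := by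
  have hfin : S.Finite := Set.finite_of_ncard_ne_zero (by rintro h; rw [h] at hS; simp at hS)
  have := hfin.fintype
  let f : S → S := fun s => ⟨i • s.1, hm _ s.2⟩
  have hf : Function.Involutive f := fun s => Subtype.ext (by simp [f, ← mul_smul, hi])
  obtain ⟨a, ha⟩ := Equiv.Perm.exists_fixed_point_of_prime (p := 2) (n := 1) (σ := hf.toPerm f)
    (by rw [← Nat.card_eq_fintype_card, Nat.card_coe_set_eq]; exact hS.not_two_dvd_nat)
    (by ext s; simp [pow_two, hf s])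
  exact ⟨a, a.2, congrArg Subtype.val ha⟩

namespace Geo

variable {A : X → Subgroup G} (H : Geo A) {p q r : X} {x y : G} {L : Subgroup G} [Finite G]
include H

theorem lin_fix (hL : Lin L) (hp : A p ≤ L) (hq : A q ≤ L) (hr : A r ≤ L) (hpq : p ≠ q)
    (hpr : p ≠ r) (x1 : x • p = p) (x2 : x • q = q) (x3 : x • r = r) (hm : mu (A p) x ≠ 1) :
    q = r := by
  obtain ⟨b, hb, rfl⟩ := H.lin_reg hL hp hq hr hpq hpr
  have h1 : b⁻¹ * (x * b * x⁻¹) = 1 := by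
    refine H.eq_one_of_fix (mul_mem (inv_mem hb)
      ((mem_normalizer_iff.1 (H.fix_iff.1 x1) b).1 hb)) ?_ hpq
    rw [mul_smul, mul_smul, fix_inv x2, mul_smul, x3, inv_smul_smul]
  rw [inv_mul_eq_one, eq_comm, mul_inv_eq_iff_eq_mul] at h1
  rw [eq_one_of_comm (H.card p) (H.fix_iff.1 x1) hm hb h1, one_smul]

theorem pow_eq_one (hL : LB L) (hp : A p ≤ L) (hx : x ∈ L) (h1 : x • p = p) (hm : mu (A p) x ≠ 1)
    {n : ℕ} (hn : mu (A p) x ^ n = 1) : x ^ n = 1 :=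
  eq_one_of_comm (H.card p) (H.fix_iff.1 h1) hm (H.mem_of_cent hL hp (pow_mem hx n)
    ((H.mone (fix_pow h1 n)).1 (by rw [H.mpow h1, hn]))) (Commute.self_pow x n)

theorem mne_one (hL : LB L) (hp : A p ≤ L) (hx : x ∈ L) (h1 : x • p = p)
    (ho : ¬ orderOf x ∣ 11) : mu (A p) x ≠ 1 := fun h =>
  ho (H.card p ▸ (A p).orderOf_dvd_natCard (H.mem_of_cent hL hp hx ((H.mone h1).1 h)))

theorem lin_odd (hL : Lin L) (hp : A p ≤ L) (hx : x ∈ L) (h1 : x • p = p) : x ^ 55 = 1 :=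
  orderOf_dvd_iff_pow_eq_one.1
    (H.card_stab_lin hL hp ▸ (L ⊓ stabilizer G p).orderOf_dvd_natCard ⟨hx, h1⟩)

/-- The element of order 5 of a line fixing two given points. -/
theorem lin_h (hL : Lin L) (hp : A p ≤ L) (hq : A q ≤ L) (hpq : p ≠ q) :
    ∃ h ∈ L, orderOf h = 5 ∧ h • p = p ∧ h • q = q ∧ mu (A p) h ≠ 1 ∧
      mu (A p) h * mu (A q) h = 1 := by
  have : Fact (Nat.Prime 5) := ⟨Nat.prime_five⟩
  obtain ⟨g, hg, ho⟩ := exists_mem_orderOf_eq_prime (H := L ⊓ stabilizer G p) Nat.prime_five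
    (by rw [H.card_stab_lin hL hp]; norm_num)
  have g1 : g • p = p := hg.2
  obtain ⟨a, ha, h⟩ := H.lin_reg hL hp hq (H.smul_le' hg.1 hq) hpq
    (fun e => hpq (smul_left_cancel g (g1.trans e)))
  have ap := fix_inv (H.fix_of_mem ha)
  set h := a⁻¹ * g with hh
  have hL' : h ∈ L := mul_mem (inv_mem (hp ha)) hg.1
  have h1 : h • p = p := fix_mul ap g1
  have h2 : h • q = q := by rw [hh, mul_smul, ← ‹a • q = g • q›, inv_smul_smul]
  have h3 : mu (A p) h = mu (A p) g := by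
    rw [hh, H.mmul ap g1, H.mcent (inv_mem (le_cent11 (H.card p) ha)), one_mul]
  have h4 : mu (A p) h ≠ 1 := h3 ▸ H.mne_one (Or.inl hL) hp hg.1 g1 (by rw [ho]; norm_num)
  have h5 : mu (A p) h ^ 5 = 1 := h3 ▸ H.mord g1 (ho ▸ pow_orderOf_eq_one g)
  have h6 : orderOf h = 5 := orderOf_eq_prime (H.pow_eq_one (Or.inl hL) hp hL' h1 h4 h5)
    (by rintro e; rw [e, mu_one (H.card p)] at h4; exact h4 rfl)
  refine ⟨h, hL', h6, h1, h2, h4, ?_⟩
  obtain ⟨w, hw, hwn, hwc⟩ := exists_norm_not_comm hL.simple (by rw [hL.card]; norm_num)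
    Nat.prime_five (by rw [hL.card]; norm_num) hL' h6
  obtain ⟨i, hi, hi'⟩ : ∃ i < 5, h ^ i = w * h * w⁻¹ := by
    classical
    have := mem_zpowers_iff_mem_range_orderOf.1 ((mem_normalizer_iff.1 hwn h).1 (mem_zpowers h))
    simpa [h6] using this
  have hi1 : i ≠ 1 := by
    rintro rfl
    exact hwc (by rw [pow_one, eq_mul_inv_iff_mul_eq] at hi'; exact hi'.symm)
  have hfix : ∀ s : X, h • s = s → h • w • s = w • s := fun s hs => by
    obtain ⟨k, hk⟩ : w⁻¹ * h * w⁻¹⁻¹ ∈ zpowers h :=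
      (mem_normalizer_iff.1 (inv_mem hwn) h).1 (mem_zpowers h)
    have h7 : (w⁻¹ * h * w⁻¹⁻¹) • s = s := by
      rw [← hk]; exact mem_stabilizer_iff.1 (zpow_mem (mem_stabilizer_iff.2 hs) k)
    rwa [inv_inv, mul_smul, mul_smul, inv_smul_eq_iff] at h7
  have e1 : mu (A (w • p)) h ^ i = mu (A p) h := by
    rw [← H.mpow (hfix p h1), hi', H.mcj h1]
  have e2 : mu (A (w • q)) h ^ i = mu (A q) h := by
    rw [← H.mpow (hfix q h2), hi', H.mcj h2]
  have wp : p ≠ w • p := fun e => by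
    rw [← e] at e1
    have key : ∀ k : ZMod 11, k ^ 5 = 1 → k ≠ 1 → ∀ i < 5, k ^ i = k → i = 1 := by decide
    exact hi1 (key _ h5 h4 i hi e1)
  have wp' := H.lin_fix hL hp hq (H.smul_le' hw hp) hpq wp h1 h2 (hfix p h1) h4
  have wq : w • q = p := by
    by_contra e
    have := H.lin_fix hL hp hq (H.smul_le' hw hq) hpq (Ne.symm e) h1 h2 (hfix q h2) h4
    exact hpq (smul_left_cancel w (wp'.symm.trans this))
  rw [← wp'] at e1
  rw [wq] at e2
  have key : ∀ k : ZMod 11, k ^ 5 = 1 → k ≠ 1 → ∀ i < 5, i ≠ 1 → (k ^ i) ^ i = k →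
      k * k ^ i = 1 := by decide
  rw [← e2] at e1 ⊢
  exact key _ h5 h4 i hi hi1 e1

/-- On a line the multipliers at two fixed points are inverse to each other. -/
theorem lin_mul (hL : Lin (A p ⊔ A q)) (hpq : p ≠ q) (x1 : x • p = p) (x2 : x • q = q) :
    mu (A p) x * mu (A q) x = 1 := by
  obtain ⟨h, -, ho, h1, h2, h3, h4⟩ := H.lin_h hL le_sup_left le_sup_right hpq
  have h5 := H.mord h1 (ho ▸ pow_orderOf_eq_one h)
  have k1 : ∀ c : ZMod 11, c ^ 5 = 1 → c ≠ 1 → ∀ k : ZMod 11, k ≠ 0 → ∃ i < 5, k ^ 2 * c ^ i = 1 := by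
    decide
  obtain ⟨i, -, hi⟩ := k1 _ h5 h3 _ (H.mne x1)
  have e := H.mone_iff (fix_mul (fix_pow x1 2) (fix_pow h1 i)) (fix_mul (fix_pow x2 2) (fix_pow h2 i))
  rw [H.mmul (fix_pow x1 2) (fix_pow h1 i), H.mmul (fix_pow x2 2) (fix_pow h2 i), H.mpow x1,
    H.mpow x2, H.mpow h1, H.mpow h2] at e
  have e2 : (mu (A p) x * mu (A q) x) ^ 2 = 1 := by
    have := congrArg₂ (· * ·) hi (e.1 hi)
    simp only [mul_one] at this
    rw [mul_mul_mul_comm, ← mul_pow, ← mul_pow, h4, one_pow, mul_one] at this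
    exact this
  have k2 : ∀ k : ZMod 11, ∀ l : ZMod 11, (k * l) ^ 2 = 1 → (k ^ 5 = 1 ↔ l ^ 5 = 1) → k * l = 1 := by
    decide
  exact k2 _ _ e2 (H.mpow_iff x1 x2 5)

/-- Transitivity on fixed points with matching multipliers. -/
theorem exists_conj_pow (hL : LB L) (hp : A p ≤ L) (hq : A q ≤ L) (hx : x ∈ L) (x1 : x • p = p)
    (x2 : x • q = q) (hm : mu (A p) x ≠ 1) {i : ℕ} (hi : mu (A q) x ^ i = mu (A p) x) :
    ∃ w ∈ L, w • p = q ∧ w * x * w⁻¹ = x ^ i := by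
  obtain ⟨w, hw, rfl⟩ := H.trans_in hL hp hq
  have h1 := fix_conj (fix_pow x2 i) w⁻¹
  have h2 := H.mcj (fix_pow x2 i) w⁻¹
  rw [inv_smul_smul] at h1 h2
  rw [H.mpow x2, hi] at h2
  obtain ⟨b, hb, h⟩ := exists_conj11 (H.card p) (H.fix_iff.1 x1) hm (H.mem_of_cent hL hp
    (mul_mem (inv_mem hx) (mul_mem (mul_mem (inv_mem hw) (pow_mem hx i)) (inv_mem (inv_mem hw))))
    (inv_mul_mem_cent (H.card p) (H.fix_iff.1 x1) (H.fix_iff.1 h1) h2.symm))
  refine ⟨w * b, mul_mem hw (hp hb), by rw [mul_smul, H.fix_of_mem hb], ?_⟩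
  calc w * b * x * (w * b)⁻¹ = w * (b * x * b⁻¹) * w⁻¹ := by group
    _ = _ := by rw [h]; group

/-- An element normalising a block acts on it as an element of the block. -/
theorem bl_dec (hL : Bl L) (hx : x ∈ normalizer (L : Set G)) :
    ∃ j ∈ L, j⁻¹ * x ∈ centralizer (L : Set G) ∧ ∀ p, A p ≤ L → j • p = x • p ∧
      (x • p = p → mu (A p) j = mu (A p) x) := by
  obtain ⟨j, hj, h⟩ := hL.inner hx
  refine ⟨j, hj, h, fun p hp => ?_⟩
  have h1 := H.fix_of_cent (H.cent_of_le hp h)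
  have h2 : j • p = x • p := by rw [mul_smul, inv_smul_eq_iff] at h1; exact h1.symm
  refine ⟨h2, fun h3 => ?_⟩
  have h4 := H.mmul (h2.trans h3) h1
  rw [mul_inv_cancel_left, H.mcent (H.cent_of_le hp h), mul_one] at h4
  exact h4.symm

/-- Multipliers of order 5 at two fixed points are equal or inverse to each other. -/
theorem mul_five (x1 : x • p = p) (x2 : x • q = q) (h5 : mu (A p) x ^ 5 = 1)
    (hm : mu (A p) x ≠ 1) : mu (A q) x = mu (A p) x ∨ mu (A p) x * mu (A q) x = 1 := by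
  by_cases hpq : p = q
  · exact Or.inl (by rw [hpq])
  rcases H.pair p q hpq with hL | hL
  · exact Or.inr (H.lin_mul hL hpq x1 x2)
  obtain ⟨j, hj, -, h⟩ := H.bl_dec hL (H.norm_pair x1 x2)
  obtain ⟨j1, m1⟩ := h p le_sup_left
  obtain ⟨j2, m2⟩ := h q le_sup_right
  have h5' := (H.mpow_iff x1 x2 5).1 h5
  have hm' := mt (H.mone_iff x1 x2).2 hm
  rw [← m1 x1] at h5 hm ⊢
  rw [← m2 x2] at h5' hm' ⊢
  by_contra hc
  have key : ∀ k : ZMod 11, k ^ 5 = 1 → k ≠ 1 → ∀ l : ZMod 11, l ^ 5 = 1 → l ≠ 1 →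
      ¬ (l = k ∨ k * l = 1) → l ^ 2 = k ∨ l ^ 3 = k := by decide
  have hj5 := H.pow_eq_one (Or.inr hL) le_sup_left hj (j1.trans x1) hm h5
  have main : ∀ i, (i = 2 ∨ i = 3) → mu (A q) j ^ i ≠ mu (A p) j := fun i hi e => by
    obtain ⟨w, hw, -, hw'⟩ := H.exists_conj_pow (Or.inr hL) le_sup_left le_sup_right hj
      (j1.trans x1) (j2.trans x2) hm e
    have h1 : ∀ n : ℕ, w ^ n * j * (w ^ n)⁻¹ = j ^ i ^ n := fun n => by
      induction n with
      | zero => simp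
      | succ n ih =>
        calc w ^ (n + 1) * j * (w ^ (n + 1))⁻¹ = w * (w ^ n * j * (w ^ n)⁻¹) * w⁻¹ := by group
          _ = _ := by rw [ih, ← conj_pow, hw', ← pow_mul, pow_succ']
    have h2 := h1 (orderOf w)
    rw [pow_orderOf_eq_one, one_mul, inv_one, mul_one] at h2
    have h3 : mu (A p) j = mu (A p) j ^ i ^ orderOf w := by rw [← H.mpow (j1.trans x1), ← h2]
    rw [pow_eq_pow_mod _ h5, Nat.pow_mod, ← Nat.div_add_mod (orderOf w) 4, pow_add, pow_mul,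
      Nat.mul_mod, Nat.pow_mod] at h3
    have h4 : orderOf w % 4 ≠ 0 := fun e => hL.no4 hw (Nat.dvd_of_mod_eq_zero e)
    have h6 : orderOf w % 4 < 4 := Nat.mod_lt _ (by norm_num)
    have k2 : ∀ k : ZMod 11, k ^ 5 = 1 → k ≠ 1 → ∀ m < 4, m ≠ 0 →
        k ≠ k ^ (2 ^ m % 5) ∧ k ≠ k ^ (3 ^ m % 5) := by decide
    obtain ⟨a, b⟩ := k2 _ h5 hm _ h6 h4
    rcases hi with rfl | rfl
    · exact a (by simpa using h3)
    · exact b (by simpa using h3)
  exact (key _ h5 hm _ h5' hm' hc).elim (main 2 (Or.inl rfl)) (main 3 (Or.inr rfl))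

/-- Two points with the same multiplier of order 5 generate a block. -/
theorem bl_of_eq (hpq : p ≠ q) (x1 : x • p = p) (x2 : x • q = q) (h5 : mu (A p) x ^ 5 = 1)
    (hm : mu (A p) x ≠ 1) (he : mu (A q) x = mu (A p) x) : Bl (A p ⊔ A q) := by
  refine (H.pair p q hpq).resolve_left fun hL => ?_
  have := H.lin_mul hL hpq x1 x2
  rw [he] at this
  have key : ∀ k : ZMod 11, k ^ 5 = 1 → k * k = 1 → k = 1 := by decide
  exact hm (key _ h5 this)

/-- An element with a multiplier of order 10. -/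
theorem mul_ten (hpq : p ≠ q) (x1 : x • p = p) (x2 : x • q = q) (h5 : mu (A p) x ^ 5 ≠ 1)
    (h2 : mu (A p) x ^ 2 ≠ 1) : (mu (A p) x * mu (A q) x) ^ 2 = 1 := by
  have k0 : ∀ k : ZMod 11, k ≠ 0 → k ^ 10 = 1 := by decide
  have h10 := k0 _ (H.mne x1)
  rcases H.mul_five (fix_pow x1 2) (fix_pow x2 2) (by rw [H.mpow x1, ← pow_mul, h10])
    (by rwa [H.mpow x1]) with h | h
  swap
  · rwa [H.mpow x1, H.mpow x2, ← mul_pow] at h
  exfalso
  have hL := H.bl_of_eq hpq (fix_pow x1 2) (fix_pow x2 2) (by rw [H.mpow x1, ← pow_mul, h10])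
    (by rwa [H.mpow x1]) h
  rw [H.mpow x1, H.mpow x2] at h
  have k1 : ∀ k : ZMod 11, k ^ 5 ≠ 1 → ∀ l : ZMod 11, l ≠ 0 → l ^ 5 ≠ 1 → l ^ 2 = k ^ 2 → l = k := by
    decide
  have he := k1 _ h5 _ (H.mne x2) (mt (H.mpow_iff x1 x2 5).2 h5) h
  obtain ⟨j, hj, -, h⟩ := H.bl_dec hL (H.norm_pair x1 x2)
  obtain ⟨j1, m1⟩ := h p le_sup_left
  obtain ⟨j2, m2⟩ := h q le_sup_right
  rw [← m1 x1] at h5 h2 h10 he
  rw [← m2 x2] at he
  have hm : mu (A p) j ≠ 1 := fun e => h5 (by rw [e, one_pow])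
  obtain ⟨w, hw, hw1, hw2⟩ := H.exists_conj_pow (Or.inr hL) le_sup_left le_sup_right hj
    (j1.trans x1) (j2.trans x2) hm (i := 1) (by rw [pow_one, he])
  have ho : orderOf j = 10 := by
    have a := orderOf_dvd_of_pow_eq_one
      (H.pow_eq_one (Or.inr hL) le_sup_left hj (j1.trans x1) hm h10)
    have b := H.mord (j1.trans x1) (pow_orderOf_eq_one j)
    have key : ∀ n ∈ Nat.divisors 10, n = 10 ∨ n ∣ 5 ∨ n ∣ 2 := by decide
    rcases key _ (Nat.mem_divisors.2 ⟨a, by norm_num⟩) with e | ⟨c, e⟩ | ⟨c, e⟩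
    · exact e
    · exact absurd (by rw [e, pow_mul, b, one_pow]) h5
    · exact absurd (by rw [e, pow_mul, b, one_pow]) h2
  have := hL.c10 hj ho hw (by rw [pow_one, mul_inv_eq_iff_eq_mul] at hw2; exact hw2)
  exact hpq ((mem_stabilizer_iff.1 (zpowers_le.2 (mem_stabilizer_iff.2 (j1.trans x1)) this)).symm.trans
    hw1)

/-- Commuting elements with multipliers of orders 5 and 2. -/
theorem mul_pair {h t : G} (hpq : p ≠ q) (h1 : h • p = p) (h2 : h • q = q) (t1 : t • p = p)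
    (t2 : t • q = q) (h5 : mu (A p) h ^ 5 = 1) (hm : mu (A p) h ≠ 1) (t5 : mu (A p) t ^ 2 = 1)
    (tm : mu (A p) t ≠ 1) : mu (A p) h * mu (A q) h = 1 := by
  have k1 : ∀ k : ZMod 11, k ^ 5 = 1 → k ≠ 1 → ∀ l : ZMod 11, l ^ 2 = 1 → l ≠ 1 →
    (k * l) ^ 5 ≠ 1 ∧ (k * l) ^ 2 ≠ 1 := by decide
  obtain ⟨a, b⟩ := k1 _ h5 hm _ t5 tm
  rw [← H.mmul h1 t1] at a b
  have := H.mul_ten hpq (fix_mul h1 t1) (fix_mul h2 t2) a b
  rw [H.mmul h1 t1, H.mmul h2 t2, mul_mul_mul_comm, mul_pow, mul_pow (mu (A p) t), t5,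
    (H.mpow_iff t1 t2 2).1 t5, mul_one, mul_one] at this
  have k2 : ∀ k : ZMod 11, k ^ 5 = 1 → ∀ l : ZMod 11, l ^ 5 = 1 → (k * l) ^ 2 = 1 → k * l = 1 := by
    decide
  exact k2 _ h5 _ ((H.mpow_iff h1 h2 5).1 h5) this

theorem eq_of_pair {h t : G} (hpq : p ≠ q) (hpr : p ≠ r) (h1 : h • p = p) (h2 : h • q = q)
    (h3 : h • r = r) (t1 : t • p = p) (t2 : t • q = q) (t3 : t • r = r) (h5 : mu (A p) h ^ 5 = 1)
    (hm : mu (A p) h ≠ 1) (t5 : mu (A p) t ^ 2 = 1) (tm : mu (A p) t ≠ 1) : q = r := by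
  by_contra hqr
  have a := H.mul_pair hpq h1 h2 t1 t2 h5 hm t5 tm
  have b := H.mul_pair hpr h1 h3 t1 t3 h5 hm t5 tm
  have c := H.mul_pair hqr h2 h3 t2 t3 ((H.mpow_iff h1 h2 5).1 h5) (mt (H.mone_iff h1 h2).2 hm)
    ((H.mpow_iff t1 t2 2).1 t5) (mt (H.mone_iff t1 t2).2 tm)
  have key : ∀ k : ZMod 11, k ^ 5 = 1 → ∀ l : ZMod 11, k * l = 1 → ∀ m : ZMod 11, k * m = 1 →
    l * m = 1 → k = 1 := by decide
  exact hm (key _ h5 _ a _ b c)

end Geo

end Cfsg.Agent.E11
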