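import Mathlib
import Cfsg.Agent.E11.Mult

/-! The element of order 10 normalising a point of a block. -/

set_option autoImplicit false
set_option linter.unusedSectionVars false

namespace Cfsg.Agent.E11

open Cfsg Cfsg.Agent.GT Cfsg.Agent.Inv.Fz Subgroup MulAction

variable {G X : Type*} [Group G] [MulAction G X]

/-- A `p`-group fixing one of the two fixed points of one of its elements fixes the other. -/
theorem fix_of_pgroup [Finite G] {n : ℕ} (hn : n.Prime) {P : Subgroup G} (hP : IsPGroup n P)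
    {S : Set X} (hS : ∀ g ∈ P, ∀ s ∈ S, g • s ∈ S) {a b : X} (ha : ∀ g ∈ P, g • a = a) (hb : b ∈ S)
    (hab : a ≠ b) {h : G} (hh : h ∈ P) (hb' : h • b = b)
    (hf : ∀ s ∈ S, h • s = s → s ≠ a → s = b) : ∀ g ∈ P, g • b = b := by
  have := Fact.mk hn
  by_contra hc
  have hlt : P ⊓ stabilizer G b < P := lt_of_le_of_ne inf_le_left fun e =>
    hc fun g hg => (e.ge hg).2
  obtain ⟨g, hg, hg'⟩ := SetLike.exists_of_lt (lt_inf_normalizer hP hlt)
  refine hg' ⟨hg.1, hf _ (hS g hg.1 b hb) ?_ fun e => hab ?_⟩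
  · have : (g⁻¹ * h * g⁻¹⁻¹) • b = b := ((mem_normalizer_iff.1 (inv_mem hg.2) h).1 ⟨hh, hb'⟩).2
    rwa [inv_inv, mul_smul, mul_smul, inv_smul_eq_iff] at this
  · exact smul_left_cancel g ((ha g hg.1).trans e.symm)

/-- A block `J` through `p` with commuting elements of orders 5 and 2 fixing `p`. -/
structure Tri (A : X → Subgroup G) (p : X) (J : Subgroup G) (j t : G) : Prop where
  bl : Bl J
  le : A p ≤ J
  jm : j ∈ J
  tm : t ∈ J
  oj : orderOf j = 5
  ot : orderOf t = 2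
  comm : Commute t j
  jp : j • p = p
  tp : t • p = p

namespace Geo

variable {A : X → Subgroup G} (H : Geo A) {p q r : X} {x y j t : G} {L J : Subgroup G} [Finite G]
include H

theorem tri_cj (T : Tri A p J j t) (g : G) :
    Tri A (g • p) (cj g J) (g * j * g⁻¹) (g * t * g⁻¹) where
  bl := T.bl.cj g
  le := by rw [H.smul]; exact cj_mono T.le
  jm := conj_mem_cj.2 T.jm
  tm := conj_mem_cj.2 T.tm
  oj := by simpa [T.oj] using (MulAut.conj g).orderOf_eq j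
  ot := by simpa [T.ot] using (MulAut.conj g).orderOf_eq t
  comm := by simpa using T.comm.map (MulAut.conj g)
  jp := fix_conj T.jp g
  tp := fix_conj T.tp g

theorem tri_j (T : Tri A p J j t) : mu (A p) j ^ 5 = 1 ∧ mu (A p) j ≠ 1 :=
  ⟨H.mord T.jp (T.oj ▸ pow_orderOf_eq_one j),
    H.mne_one (Or.inr T.bl) T.le T.jm T.jp (by rw [T.oj]; norm_num)⟩

theorem tri_t (T : Tri A p J j t) : mu (A p) t ^ 2 = 1 ∧ mu (A p) t ≠ 1 :=
  ⟨H.mord T.tp (T.ot ▸ pow_orderOf_eq_one t),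
    H.mne_one (Or.inr T.bl) T.le T.tm T.tp (by rw [T.ot]; norm_num)⟩

theorem exists_t (hJ : Bl J) (hp : A p ≤ J) (hj : j ∈ J) (ho : orderOf j = 5) (jp : j • p = p) :
    ∃ t, Tri A p J j t := by
  have : Fact (Nat.Prime 2) := ⟨Nat.prime_two⟩
  obtain ⟨g, hg, go⟩ := exists_mem_orderOf_eq_prime (H := J ⊓ stabilizer G p) Nat.prime_two
    (by rw [H.card_stab_bl hJ hp]; norm_num)
  have g1 : g • p = p := hg.2
  have hm := H.mne_one (Or.inr hJ) hp hj jp (by rw [ho]; norm_num)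
  have h1 := fix_conj jp g
  rw [g1] at h1
  obtain ⟨b, hb, h⟩ := exists_conj11 (H.card p) (H.fix_iff.1 jp) hm (H.mem_of_cent (Or.inr hJ) hp
    (mul_mem (inv_mem hj) (mul_mem (mul_mem hg.1 hj) (inv_mem hg.1)))
    (inv_mul_mem_cent (H.card p) (H.fix_iff.1 jp) (H.fix_iff.1 h1) (H.mcj' jp g1).symm))
  have bp := fix_inv (H.fix_of_mem hb)
  have h3 : mu (A p) (b⁻¹ * g) = mu (A p) g := by
    rw [H.mmul bp g1, H.mcent (inv_mem (le_cent11 (H.card p) hb)), one_mul]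
  have h4 : mu (A p) (b⁻¹ * g) ≠ 1 :=
    h3 ▸ H.mne_one (Or.inr hJ) hp hg.1 g1 (by rw [go]; norm_num)
  have h5 : b⁻¹ * g ∈ J := mul_mem (inv_mem (hp hb)) hg.1
  refine ⟨b⁻¹ * g, hJ, hp, hj, h5, ho, orderOf_eq_prime (H.pow_eq_one (Or.inr hJ) hp h5
    (fix_mul bp g1) h4 (h3 ▸ H.mord g1 (go ▸ pow_orderOf_eq_one g))) ?_, ?_, jp, fix_mul bp g1⟩
  · intro e
    rw [e, mu_one (H.card p)] at h4
    exact h4 rfl
  · calc b⁻¹ * g * j = b⁻¹ * (g * j * g⁻¹) * g := by group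
      _ = j * (b⁻¹ * g) := by rw [← h]; group

theorem exists_tri (hJ : Bl J) (hp : A p ≤ J) : ∃ j t, Tri A p J j t := by
  obtain ⟨g, hg, go⟩ := exists_mem_orderOf_eq_prime (H := J ⊓ stabilizer G p) Nat.prime_five
    (by rw [H.card_stab_bl hJ hp]; norm_num)
  exact ⟨g, H.exists_t hJ hp hg.1 go hg.2⟩

/-- An element of order 5 of a block has three fixed points with a given multiplier. -/
theorem ncard_three (hJ : Bl J) (hp : A p ≤ J) (hj : j ∈ J) (ho : orderOf j = 5) (jp : j • p = p) :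
    {q | A q ≤ J ∧ j • q = q ∧ mu (A q) j = mu (A p) j}.ncard = 3 := by
  obtain ⟨t, T⟩ := H.exists_t hJ hp hj ho jp
  have h1 : orbit ↥(J ⊓ centralizer {j}) p =
      {q | A q ≤ J ∧ j • q = q ∧ mu (A q) j = mu (A p) j} := by
    ext q
    constructor
    · rintro ⟨w, rfl⟩
      have hc : Commute (w : G) j := mem_centralizer_singleton_iff.1 w.2.2
      exact ⟨H.smul_le' w.2.1 hp, fix_comm jp hc, H.mcomm jp hc⟩
    · rintro ⟨a, b, c⟩
      obtain ⟨w, hw, h, h'⟩ := H.exists_conj_pow (Or.inr hJ) hp a hj jp b (H.tri_j T).2 (i := 1)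
        (by rw [pow_one, c])
      rw [pow_one, mul_inv_eq_iff_eq_mul] at h'
      exact ⟨⟨w, hw, mem_centralizer_singleton_iff.2 h'⟩, h⟩
  have h2 := ncard_orbit (J ⊓ centralizer {j}) p
  rw [h1, hJ.c5 hj ho] at h2
  have h3 : Nat.card ↥(J ⊓ centralizer {j} ⊓ stabilizer G p) ∣ 110 := by
    rw [← H.card_stab_bl hJ hp]; exact card_dvd_of_le (inf_le_inf_right _ inf_le_left)
  have h4 : 10 ∣ Nat.card ↥(J ⊓ centralizer {j} ⊓ stabilizer G p) :=
    Nat.Coprime.mul_dvd_of_dvd_of_dvd (m := 5) (n := 2) (by norm_num)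
      (ho ▸ Subgroup.orderOf_dvd_natCard _ ⟨⟨hj, mem_centralizer_singleton_iff.2 rfl⟩, jp⟩)
      (T.ot ▸ Subgroup.orderOf_dvd_natCard _
        ⟨⟨T.tm, mem_centralizer_singleton_iff.2 T.comm.eq⟩, T.tp⟩)
  have h5 := Nat.dvd_antisymm (Nat.dvd_gcd h3 ⟨_, h2.symm⟩) h4
  rw [h5] at h2
  norm_num at h2
  omega

/-- An involution normalising a block fixes a point with a given multiplier of order 5. -/
theorem exists_fix (hJ : Bl J) (hp : A p ≤ J) (hx : x ∈ normalizer (J : Set G)) (xp : x • p = p)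
    (h5 : mu (A p) x ^ 5 = 1) (hm : mu (A p) x ≠ 1) {i : G} (hi : i * i = 1)
    (hiJ : i ∈ normalizer (J : Set G)) (hc : Commute i x) :
    ∃ r, A r ≤ J ∧ x • r = r ∧ mu (A r) x = mu (A p) x ∧ i • r = r := by
  have : Fact (Nat.Prime 5) := ⟨Nat.prime_five⟩
  obtain ⟨j, hj, -, h⟩ := H.bl_dec hJ hx
  obtain ⟨j1, m1⟩ := h p hp
  have ho : orderOf j = 5 := orderOf_eq_prime (H.pow_eq_one (Or.inr hJ) hp hj (j1.trans xp)
    (by rwa [m1 xp]) (by rwa [m1 xp])) (by rintro rfl; exact hm (by rw [← m1 xp, mu_one (H.card p)]))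
  have h3 := H.ncard_three hJ hp hj ho (j1.trans xp)
  have e : {q | A q ≤ J ∧ j • q = q ∧ mu (A q) j = mu (A p) j} =
      {q | A q ≤ J ∧ x • q = q ∧ mu (A q) x = mu (A p) x} := by
    ext q
    refine and_congr_right fun hq => ?_
    rw [(h q hq).1, m1 xp]
    exact and_congr_right fun hq' => by rw [(h q hq).2 hq']
  rw [e] at h3
  obtain ⟨r, ⟨a, b, c⟩, d⟩ := exists_fix_of_odd
    (S := {q | A q ≤ J ∧ x • q = q ∧ mu (A q) x = mu (A p) x}) (by rw [h3]; decide) hi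
    fun s hs => ⟨H.smul_le hiJ hs.1, fix_comm hs.2.1 hc, (H.mcomm hs.2.1 hc).trans hs.2.2⟩
  exact ⟨r, a, b, c, d⟩

theorem exists_plus (hJ : Bl J) (hp : A p ≤ J) (hj : j ∈ J) (ho : orderOf j = 5) (jp : j • p = p) :
    ∃ q, p ≠ q ∧ A q ≤ J ∧ j • q = q ∧ mu (A q) j = mu (A p) j := by
  obtain ⟨q, hq, h⟩ := Set.exists_ne_of_one_lt_ncard
    (by rw [H.ncard_three hJ hp hj ho jp]; norm_num) p
  exact ⟨q, h.symm, hq⟩

theorem tri_other (T : Tri A p J j t) : ∃ q, p ≠ q ∧ A q ≤ J ∧ j • q = q ∧ t • q = q := by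
  classical
  obtain ⟨w, hw, hwn, hwc⟩ := exists_norm_not_comm T.bl.simple (by rw [T.bl.card]; norm_num)
    Nat.prime_five (by rw [T.bl.card]; norm_num) T.jm T.oj
  obtain ⟨h5, hm⟩ := H.tri_j T
  have hfix : j • w • p = w • p := by
    obtain ⟨k, hk⟩ : w⁻¹ * j * w⁻¹⁻¹ ∈ zpowers j :=
      (mem_normalizer_iff.1 (inv_mem hwn) j).1 (mem_zpowers j)
    have h7 : (w⁻¹ * j * w⁻¹⁻¹) • p = p := by
      rw [← hk]; exact mem_stabilizer_iff.1 (zpow_mem (mem_stabilizer_iff.2 T.jp) k)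
    rwa [inv_inv, mul_smul, mul_smul, inv_smul_eq_iff] at h7
  obtain ⟨r, a, b, c, d⟩ := H.exists_fix T.bl (H.smul_le' hw T.le) (le_normalizer T.jm) hfix
    ((H.mpow_iff T.jp hfix 5).1 h5) (mt (H.mone_iff T.jp hfix).2 hm)
    (by rw [← pow_two, ← T.ot, pow_orderOf_eq_one]) (le_normalizer T.tm) T.comm
  refine ⟨r, ?_, a, b, d⟩
  rintro rfl
  obtain ⟨i, hi, hi'⟩ : ∃ i < 5, j ^ i = w * j * w⁻¹ := by
    have := mem_zpowers_iff_mem_range_orderOf.1 ((mem_normalizer_iff.1 hwn j).1 (mem_zpowers j))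
    simpa [T.oj] using this
  have e1 : mu (A (w • p)) j ^ i = mu (A p) j := by rw [← H.mpow hfix, hi', H.mcj T.jp]
  have key : ∀ k : ZMod 11, k ^ 5 = 1 → k ≠ 1 → ∀ i < 5, k ^ i = k → i = 1 := by decide
  obtain rfl := key _ h5 hm i hi (c ▸ e1)
  exact hwc (by rw [pow_one, eq_mul_inv_iff_mul_eq] at hi'; exact hi'.symm)

/-- Two points of a block fixed by an involution of the block generate a block. -/
theorem bl_of_inv (hJ : Bl J) (hp : A p ≤ J) (hq : A q ≤ J) (hpq : p ≠ q) (ht : t ∈ J)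
    (ho : orderOf t = 2) (tp : t • p = p) (tq : t • q = q) : Bl (A p ⊔ A q) := by
  have : Fact (Nat.Prime 2) := ⟨Nat.prime_two⟩
  refine (H.pair p q hpq).resolve_left fun hL => ?_
  have hm := H.mne_one (Or.inr hJ) hp ht tp (by rw [ho]; norm_num)
  set L := A p ⊔ A q
  obtain ⟨E, hE, htE⟩ := exists_isSylIn (p := 2) (H := J ⊓ normalizer (L : Set G))
    (IsPGroup.of_card (n := 1) (by rw [Nat.card_zpowers, ho]; rfl)) (zpowers_le.2 ⟨ht, H.norm_pair tp tq⟩)
  have hV := hE.inf_of_le_normalizer (le_inf (sup_le hp hq) le_normalizer) inf_le_right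
  have sq : ∀ y ∈ E, y * y = 1 := fun y hy => by
    obtain ⟨k, hk⟩ := (IsPGroup.iff_orderOf.1 hE.isPGroup) ⟨y, hy⟩
    rw [← orderOf_coe] at hk
    have h4 := hJ.no4 (hE.le hy).1
    have : k < 2 := by
      by_contra h
      exact h4 (hk ▸ pow_dvd_pow 2 (not_lt.1 h))
    rw [← pow_two, ← orderOf_dvd_iff_pow_eq_one, hk]
    exact pow_dvd_pow 2 (show k ≤ 1 by omega)
  have cm : ∀ y ∈ E, Commute y t := fun y hy => by
    have t1 := sq t (htE (mem_zpowers t))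
    have := sq _ (mul_mem hy (htE (mem_zpowers t)))
    calc y * t = (y * t)⁻¹ := eq_inv_of_mul_eq_one_left this
      _ = t * y := by
        rw [mul_inv_rev, ← eq_inv_of_mul_eq_one_left t1, ← eq_inv_of_mul_eq_one_left (sq y hy)]
  have h1 := ncard_orbit (E ⊓ L) p
  rw [(eq_bot_iff_forall (E ⊓ L ⊓ stabilizer G p)).2 fun y hy => ?_, card_bot, one_mul] at h1
  · have h2 : orbit ↥(E ⊓ L) p ⊆ {p, q} := by
      rintro _ ⟨v, rfl⟩
      by_cases e : p = (v : G) • p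
      · exact Or.inl e.symm
      · exact Or.inr (H.lin_fix hL le_sup_left le_sup_right (H.smul_le' v.2.2 le_sup_left) hpq e
          tp tq (fix_comm tp (cm _ v.2.1)) hm).symm
    have h3 := Set.ncard_le_ncard h2
    rw [Set.ncard_pair hpq, h1] at h3
    have h4 := Inv.Fz.card_mul_relIndex hV.le
    have h5 := hV.not_dvd_relIndex
    have h6 : 0 < Nat.card ↥(E ⊓ L) := Nat.card_pos
    rw [hL.card] at h4
    interval_cases Nat.card ↥(E ⊓ L) <;> omega
  · have a := H.lin_odd hL le_sup_left hy.1.2 hy.2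
    have b := sq y hy.1.1
    rwa [show 55 = 2 * 27 + 1 from rfl, pow_succ, pow_mul, pow_two, b, one_pow, one_mul] at a

theorem eq_of_bl_le (h1 : Bl L) (h2 : Bl J) (h : L ≤ J) : L = J :=
  eq_of_le_of_card_ge h (by rw [h1.card, h2.card])

end Geo

end Cfsg.Agent.E11
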