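import Mathlib
import Cfsg.Agent.Cl.UOrder

/-! No elementary abelian subgroup of order 8 in `PSU₃(q)` in characteristic 11. -/

set_option autoImplicit false

namespace Cfsg.Agent.E11

open Cfsg Matrix

section
variable {F : Type*} [Field F]

theorem trace_of_sq {w : Matrix (Fin 3) (Fin 3) F} (h : w * w = 1) (hd : w.det = 1) :
    w = 1 ∨ w.trace = -1 := by
  have h1 : w.adjugate = w := by
    have := w.mul_adjugate
    rw [hd, one_smul] at this
    calc w.adjugate = w * (w * w.adjugate) := by rw [← mul_assoc, h, one_mul]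
      _ = w := by rw [this, mul_one]
  have h2 : w.adjugate = w * w - w.trace • w + w.adjugate.trace • (1 : Matrix (Fin 3) (Fin 3) F) := by
    ext i j
    fin_cases i <;> fin_cases j <;>
      simp [adjugate_fin_three, trace_fin_three, mul_apply, Fin.sum_univ_three] <;> ring
  rw [h1, h] at h2
  by_cases ht : w.trace = -1
  · exact Or.inr ht
  have h3 : (1 + w.trace) • w = (1 + w.trace) • (1 : Matrix (Fin 3) (Fin 3) F) := by
    rw [add_smul, add_smul, one_smul, one_smul]
    nth_rewrite 1 [h2]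
    abel
  exact Or.inl (smul_right_injective _ (fun e => ht (by linear_combination e)) h3)

theorem sl3_no_e8 [CharP F 11] {x y z : SpecialLinearGroup (Fin 3) F} (hx : x * x = 1)
    (hy : y * y = 1) (hz : z * z = 1) (xy : Commute x y) (xz : Commute x z) (yz : Commute y z)
    (n1 : x ≠ 1) (n2 : y ≠ 1) (n3 : z ≠ 1) (n4 : x * y ≠ 1) (n5 : x * z ≠ 1) (n6 : y * z ≠ 1)
    (n7 : x * y * z ≠ 1) : False := by
  have tr : ∀ w : SpecialLinearGroup (Fin 3) F, w * w = 1 → w ≠ 1 →
      (w : Matrix (Fin 3) (Fin 3) F).trace = -1 := fun w h h1 =>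
    (trace_of_sq (congrArg Subtype.val h) w.2).resolve_left fun e => h1 (Subtype.ext e)
  have sq : ∀ {a b : SpecialLinearGroup (Fin 3) F}, a * a = 1 → b * b = 1 → Commute a b →
      a * b * (a * b) = 1 := fun ha hb hc => by rw [hc.symm.mul_mul_mul_comm, ha, hb, one_mul]
  have t1 := tr _ hx n1
  have t2 := tr _ hy n2
  have t3 := tr _ hz n3
  have t4 := tr _ (sq hx hy xy) n4
  have t5 := tr _ (sq hx hz xz) n5
  have t6 := tr _ (sq hy hz yz) n6
  have t7 := tr _ (sq (sq hx hy xy) hz (xz.mul_left yz)) n7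
  simp only [Matrix.SpecialLinearGroup.coe_mul] at t4 t5 t6 t7
  have c : ∀ {a b : SpecialLinearGroup (Fin 3) F}, Commute a b →
    Commute (1 + a : Matrix (Fin 3) (Fin 3) F) (1 + b) := fun h =>
      (Commute.one_left _).add_left ((Commute.one_right _).add_right (congrArg Subtype.val h.eq))
  have e : ∀ {a : SpecialLinearGroup (Fin 3) F}, a * a = 1 →
      (1 + a : Matrix (Fin 3) (Fin 3) F) * (1 + a) = (2 : F) • (1 + a) := fun {a} h => by
    have : (a : Matrix (Fin 3) (Fin 3) F) * a = 1 := congrArg Subtype.val h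
    rw [add_mul, mul_add, mul_add, this, two_smul]
    simp [add_comm]
  set E : Matrix (Fin 3) (Fin 3) F := (1 + x) * (1 + y) * (1 + z) with hE
  have h11 : (11 : F) = 0 := by simpa using CharP.cast_eq_zero F 11
  have E1 : E * E = (8 : F) • E := by
    rw [hE, ((c xz).mul_left (c yz)).symm.mul_mul_mul_comm, (c xy).symm.mul_mul_mul_comm, e hx,
      e hy, e hz]
    simp only [smul_mul_assoc, mul_smul_comm, smul_smul]
    norm_num
  have E2 : E.trace = -4 := by
    simp only [hE, add_mul, mul_add, one_mul, mul_one, trace_add, trace_one, t1, t2, t3, t4, t5, t6,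
      t7, Fintype.card_fin]
    norm_num
  have W1 : ((3 : F) • E - 1) * ((3 : F) • E - 1) = 1 := by
    simp only [sub_mul, mul_sub, smul_mul_assoc, mul_smul_comm, E1, smul_smul, mul_one, one_mul]
    have : (3 * 8 : F) = 1 + 1 := by linear_combination 2 * h11
    rw [this, add_smul, one_smul, add_sub_cancel_right, sub_sub_cancel]
  have W2 : ((3 : F) • E - 1).trace = -15 := by
    rw [trace_sub, trace_smul, E2, trace_one, Fintype.card_fin]; norm_num
  have ne : ∀ n : ℕ, ¬ 11 ∣ n → (n : F) ≠ 0 := fun n hn => by rwa [Ne, CharP.cast_eq_zero_iff F 11]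
  have t0 : (1 : Matrix (Fin 3) (Fin 3) F).trace = 3 := by simp
  generalize (3 : F) • E - 1 = W at W1 W2
  have d : W.det * W.det = 1 := by rw [← det_mul, W1, det_one]
  rcases mul_self_eq_one_iff.1 d with d | d
  · rcases trace_of_sq W1 d with h | h
    · exact ne 18 (by norm_num) (by rw [h, t0] at W2; push_cast; linear_combination W2)
    · exact ne 14 (by norm_num) (by push_cast; linear_combination W2 - h)
  · rcases trace_of_sq (w := -W) (by rw [neg_mul_neg, W1]) (by rw [det_neg, d]; norm_num) with h | h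
    · have := congrArg trace h
      rw [trace_neg, t0] at this
      exact ne 12 (by norm_num) (by push_cast; linear_combination this + W2)
    · rw [trace_neg] at h
      exact ne 16 (by norm_num) (by push_cast; linear_combination h + W2)

end

theorem lift_three {S : Type*} [Group S] (h3 : ∀ c ∈ Subgroup.center S, c ^ 3 = 1)
    {u : S ⧸ Subgroup.center S} (hu : u * u = 1) : ∃ a : S, a * a = 1 ∧ (a : S ⧸ _) = u := by
  obtain ⟨a, rfl⟩ := QuotientGroup.mk_surjective u
  refine ⟨a ^ 3, ?_, by rw [QuotientGroup.mk_pow, pow_succ, pow_two, hu, one_mul]⟩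
  rw [← (Commute.refl a).mul_pow]
  exact h3 _ ((QuotientGroup.eq_one_iff _).1 hu)

theorem comm_three {S : Type*} [Group S] (h3 : ∀ c ∈ Subgroup.center S, c ^ 3 = 1) {a b : S}
    (ha : a * a = 1) (h : Commute (a : S ⧸ Subgroup.center S) b) : Commute a b := by
  have h1 : b * a * b⁻¹ * a⁻¹ ∈ Subgroup.center S := by
    rw [← QuotientGroup.eq_one_iff]
    simp only [QuotientGroup.mk_mul, QuotientGroup.mk_inv]
    rw [← h.eq]; group
  have h2 := Subgroup.mem_center_iff.1 h1
  have h4 := h3 _ h1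
  set c := b * a * b⁻¹ * a⁻¹ with hc
  have h5 : c * c = 1 := by
    calc c * c = c * (c * a) * a := by rw [mul_assoc c, mul_assoc c, ha, mul_one]
      _ = c * (a * c) * a := by rw [h2 a]
      _ = (c * a) * (c * a) := by group
      _ = b * (a * a) * b⁻¹ := by rw [hc]; group
      _ = 1 := by rw [ha]; group
  rw [pow_succ, pow_two, h5, one_mul, hc, mul_inv_eq_one, mul_inv_eq_iff_eq_mul] at h4
  exact h4.symm

theorem psu3_no_e8 {G F : Type*} [Group G] [Field F] [Fintype F] [CharP F 11] {q : ℕ}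
    (hq : Fintype.card F = q ^ 2) (e : G ≃* PSU 3 F q) {x y z : G} (hx : x * x = 1)
    (hy : y * y = 1) (hz : z * z = 1) (xy : Commute x y) (xz : Commute x z) (yz : Commute y z)
    (n1 : x ≠ 1) (n2 : y ≠ 1) (n3 : z ≠ 1) (n4 : x * y ≠ 1) (n5 : x * z ≠ 1) (n6 : y * z ≠ 1)
    (n7 : x * y * z ≠ 1) : False := by
  obtain ⟨σ, hσ⟩ := Cl.exists_uField hq
  have h3 : ∀ c ∈ Subgroup.center (SU 3 F q), c ^ 3 = 1 := fun c hc =>
    orderOf_dvd_iff_pow_eq_one.1 ((Subgroup.orderOf_dvd_natCard _ hc).trans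
      (by rw [hσ.card_center_SU (by norm_num)]; exact Nat.gcd_dvd_left _ _))
  obtain ⟨a, ha, ea⟩ := lift_three h3 (u := e x) (by rw [← map_mul, hx, map_one])
  obtain ⟨b, hb, eb⟩ := lift_three h3 (u := e y) (by rw [← map_mul, hy, map_one])
  obtain ⟨c, hc, ec⟩ := lift_three h3 (u := e z) (by rw [← map_mul, hz, map_one])
  have ne : ∀ (w : SU 3 F q) (g : G), (w : PSU 3 F q) = e g → g ≠ 1 →
      (w : SpecialLinearGroup (Fin 3) F) ≠ 1 := fun w g h h1 h2 => by
    rw [show w = 1 from Subtype.ext h2, QuotientGroup.mk_one, eq_comm, map_eq_one_iff _ e.injective]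
      at h
    exact h1 h
  have cm : ∀ (a b : SU 3 F q) (g h : G), a * a = 1 → (a : PSU 3 F q) = e g → (b : PSU 3 F q) = e h →
      Commute g h → Commute (a : SpecialLinearGroup (Fin 3) F) b := fun a b g h ha h1 h2 h4 =>
    congrArg Subtype.val (comm_three h3 ha (by rw [h1, h2]; exact h4.map e)).eq
  exact sl3_no_e8 (congrArg Subtype.val ha) (congrArg Subtype.val hb) (congrArg Subtype.val hc)
    (cm a b x y ha ea eb xy) (cm a c x z ha ea ec xz) (cm b c y z hb eb ec yz)
    (ne a x ea n1) (ne b y eb n2) (ne c z ec n3)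
    (ne (a * b) _ (by rw [QuotientGroup.mk_mul, ea, eb, map_mul]) n4)
    (ne (a * c) _ (by rw [QuotientGroup.mk_mul, ea, ec, map_mul]) n5)
    (ne (b * c) _ (by rw [QuotientGroup.mk_mul, eb, ec, map_mul]) n6)
    (ne (a * b * c) _ (by rw [QuotientGroup.mk_mul, QuotientGroup.mk_mul, ea, eb, ec, map_mul,
      map_mul]) n7)

end Cfsg.Agent.E11
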